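import Cfsg.Agent.Omega.NOThreeL.RRed.QFr.OffOf
import Cfsg.Agent.Omega.NOThreeL.RRed.LeftData
import Cfsg.Agent.Omega.NOThreeL.RWide.DPNat
import Cfsg.Agent.Omega.NOThreeL.RRed.Blk.AsmMv

/-!
# A minimal exact offender on `V*` is the root group of one block (helper540; 553 #27581 (D), #27692 (2))

Over `NBs` + `Src` (WideTree v5):

* `no_S` : `NoOverM V* S`;
* `tt_of` : exact and minimal (in 553's form) ⟹ `Tt V* A`;
* `best_of_exact` : exact + `NoOver` ⟹ best on all `Y ≤ V`;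
* **`min_one`** : exactly one block `N b` is moved, `RootOn A (N b) (l b)`, `[V*, A] ≤ l b`;  **`comm_eq`** :
  `⁅V*, A⁆ = l b`.
-/

set_option autoImplicit false
set_option linter.unusedSectionVars false

namespace Cfsg.Agent.Omega.NOThreeL.RRed.QFr.MinOne

open Subgroup Cfsg Cfsg.Agent.ZN
open Cfsg.Agent.Omega.FFThm (ElemM NoOverM)
open Cfsg.Agent.Omega.NatPair (ap)
open Cfsg.Agent.Omega.NO3S.ThmB (Nb)
open Cfsg.Agent.Omega.NO3S.KeyRad (blk)
open Cfsg.Agent.Omega.NOThreeL.Merge (MZ)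
open Cfsg.Agent.Omega.NOThreeL.RTree (RB)
open Cfsg.Agent.Omega.NOThreeL.RRed.NS (Tt)
open Cfsg.Agent.Omega.NOThreeL.RRed.GlueSig
open Cfsg.Agent.Omega.NOThreeL.RRed.WideTree
open Cfsg.Agent.Omega.NOThreeL.RWide (RootOn)
open Cfsg.Agent.Omega.NOThreeL.RWide
open scoped Pointwise

universe u

variable {G : Type u} [Group G] [Finite G]

/-- exact + no over-offenders ⟹ best on all `Y ≤ V` -/
theorem best_of_exact {V A T : Subgroup G} (hc : ∀ v ∈ V, ∀ w ∈ V, v * w = w * v) (no : NoOverM V T) (hA : A ≤ T)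
    (hE : ElemM V A)
    (ex : Nat.card A * Nat.card ↥(V ⊓ centralizer (A : Set G)) = Nat.card V * Nat.card ↥(A ⊓ centralizer (V : Set G)))
    (Y : Subgroup G) (hY : Y ≤ V) : Nat.card ↥(A ⊓ centralizer (Y : Set G)) * Nat.card Y ≤
      Nat.card A * Nat.card ↥(Y ⊓ centralizer (A : Set G)) := by
  set B : Subgroup G := A ⊓ centralizer (Y : Set G) with hB
  have hEB : ElemM V B := ⟨fun b hb => hE.sq b hb.1, fun b hb c hc => hE.comm b hb.1 c hc.1⟩
  have h1 := no B (inf_le_left.trans hA) hEB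
  have h2 : B ⊓ centralizer (V : Set G) = A ⊓ centralizer (V : Set G) :=
    le_antisymm (inf_le_inf_right _ inf_le_left) fun x hx => ⟨⟨hx.1, centralizer_le hY hx.2⟩, hx.2⟩
  rw [h2, ← ex] at h1
  -- `Y C_V(A) ≤ C_V(B)`
  have h3 := OmThm.SideBase.card_sup_comm (A := Y) (B := V ⊓ centralizer (A : Set G)) fun a ha b hb =>
    hc a (hY ha) b hb.1
  have h4 : Y ⊓ (V ⊓ centralizer (A : Set G)) = Y ⊓ centralizer (A : Set G) := by
    rw [← inf_assoc, inf_eq_left.2 hY]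
  rw [h4] at h3
  have h5 : Nat.card ↥(Y ⊔ (V ⊓ centralizer (A : Set G))) ≤ Nat.card ↥(V ⊓ centralizer (B : Set G)) := by
    refine card_le_of_le (sup_le (le_inf hY fun y hy => mem_centralizer_iff.2 fun b hb =>
      (mem_centralizer_iff.1 hb.2 y hy).symm) (inf_le_inf_left _ (centralizer_le inf_le_left)))
  have hpos : 0 < Nat.card ↥(V ⊓ centralizer (A : Set G)) := Nat.card_pos
  refine Nat.le_of_mul_le_mul_right (c := Nat.card ↥(V ⊓ centralizer (A : Set G))) ?_ hpos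
  calc Nat.card B * Nat.card Y * Nat.card ↥(V ⊓ centralizer (A : Set G))
      = Nat.card B * (Nat.card ↥(Y ⊔ (V ⊓ centralizer (A : Set G))) * Nat.card ↥(Y ⊓ centralizer (A : Set G))) := by
        rw [h3, mul_assoc]
    _ ≤ Nat.card B * (Nat.card ↥(V ⊓ centralizer (B : Set G)) * Nat.card ↥(Y ⊓ centralizer (A : Set G))) :=
        Nat.mul_le_mul_left _ (Nat.mul_le_mul_right _ h5)
    _ = Nat.card B * Nat.card ↥(V ⊓ centralizer (B : Set G)) * Nat.card ↥(Y ⊓ centralizer (A : Set G)) := by ring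
    _ ≤ Nat.card A * Nat.card ↥(V ⊓ centralizer (A : Set G)) * Nat.card ↥(Y ⊓ centralizer (A : Set G)) :=
        Nat.mul_le_mul_right _ h1
    _ = Nat.card A * Nat.card ↥(Y ⊓ centralizer (A : Set G)) * Nat.card ↥(V ⊓ centralizer (A : Set G)) := by ring

/-- exact and minimal -/
theorem tt_of {V A T : Subgroup G} (no : NoOverM V T) (hA : A ≤ T) (hE : ElemM V A)
    (hne : ¬ A ≤ centralizer (V : Set G))
    (ex : Nat.card A * Nat.card ↥(V ⊓ centralizer (A : Set G)) = Nat.card V * Nat.card ↥(A ⊓ centralizer (V : Set G)))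
    (min : ∀ A' : Subgroup G, A' ≤ A → ¬ A' ≤ centralizer (V : Set G) →
      Nat.card A' * Nat.card ↥(V ⊓ centralizer (A' : Set G)) = Nat.card V * Nat.card ↥(A' ⊓ centralizer (V : Set G)) →
        A ≤ A' ⊔ (A ⊓ centralizer (V : Set G))) : Tt V A where
  elem := hE
  ne := hne
  off := ex.ge
  min B h1 h2 h3 h4 := by
    have hEB : ElemM V B := ⟨fun b hb => hE.sq b (h2 hb), fun b hb c hc => hE.comm b (h2 hb) c (h2 hc)⟩
    have h5 := no B (h2.trans hA) hEB
    have h6 : B ⊓ centralizer (V : Set G) = A ⊓ centralizer (V : Set G) :=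
      le_antisymm (inf_le_inf_right _ h2) (le_inf h1 inf_le_right)
    refine lt_of_le_of_ne (h5.trans (by rw [h6, ex])) fun h7 => h3 (le_antisymm h2 ?_)
    refine (min B h2 h4 (by rw [h7, ex, h6])).trans (sup_le le_rfl h1)

variable {S : Sylow 2 G} {ι : Type u} {N E D l : ι → Subgroup G} {q : ι → ℕ}

theorem no_S [Nonempty ι] (B : RB S) (hs : Src (S : Subgroup G) N l q) :
    NoOverM (Wd (S : Subgroup G)) (S : Subgroup G) := by
  obtain ⟨b⟩ := ‹Nonempty ι›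
  obtain ⟨P, hP, -⟩ := hs.mov b
  exact fun A hA hE => Blk.AsmMv.no_of B hP A (hA.trans (WLeft.S_le_MZ B)) hE

theorem min_one (B : RB S) (h : NBs (S : Subgroup G) N E D l q) (hs : Src (S : Subgroup G) N l q)
    {A : Subgroup G} (hA : A ≤ (S : Subgroup G))
    (t : Tt (Wd (S : Subgroup G)) A) : ∃ b, ¬ A ≤ centralizer (N b : Set G) ∧
      (∀ c, c ≠ b → A ≤ centralizer (N c : Set G)) ∧ RootOn A (N b) (l b) ∧ Nat.card (l b) = q b ∧
        ∀ a ∈ A, ∀ v ∈ Wd (S : Subgroup G), a * v * a⁻¹ * v⁻¹ ∈ l b := by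
  have hU2 := NS.elem_Wd B
  have hsup : (⨆ b, N b) = Wd (S : Subgroup G) := by rw [← h.dec.sup, sup_bot_eq]
  have ind := LeftData.dec_indep h.dec
  obtain ⟨b, hb⟩ : ∃ b, ¬ A ≤ centralizer (N b : Set G) := by
    by_contra hcon
    push Not at hcon
    apply t.ne
    rw [le_centralizer_iff, ← hsup]
    exact iSup_le fun b => by
      rw [le_centralizer_iff]; exact hcon b
  obtain ⟨P, hP, F, _, _, _, k, -, M, h', spl, ⟨j, h1, h2, h3⟩, h4⟩ := hs.mov b
  have hPM : P ≤ MZ (S : Subgroup G) := le_sSup hP.1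
  have hVU : zl (S : Subgroup G) P ≤ Wd (S : Subgroup G) :=
    MinSimple.VModule.zl_le (MinSimple.VModule.zc_le_zl _ _) (hPM.trans (MinSimple.VModule.le_normalizer_zl _ _))
  have hjV : blk M j ≤ zl (S : Subgroup G) P := (NO3S.KeyRad.blk_le h' j)
  have hne : ¬ A ≤ centralizer (zl (S : Subgroup G) P : Set G) := fun h0 =>
    hb (h0.trans (centralizer_le (h1 ▸ hjV)))
  obtain ⟨i, O⟩ := t.one h' hU2 hVU hA hne
  have hR : RootOn A (blk M i) (NS.YY h' i) := PNat.rootOn h' spl hA (t.offM hU2 hVU hne) i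
  -- `i = j`
  have hij : i = j := by
    by_contra hij
    apply hb
    intro a ha
    obtain ⟨β, hβ⟩ := O.act a ha
    rw [h1]
    exact mem_centralizer_iff.2 fun v hv => (PNat.DP_cent h' spl (Ne.symm hij)
      (⟨h'.SP' (hA ha), _, hβ⟩ : a ∈ PNat.DP h' i) hv).symm
  subst hij
  have hcomm : ∀ a ∈ A, ∀ v ∈ Wd (S : Subgroup G), a * v * a⁻¹ * v⁻¹ ∈ l b := by
    intro a ha v hv
    obtain ⟨w, hw, hw0, c, hc, hca, rfl⟩ := O.full v hv
    have h5 : a * (w * c) * a⁻¹ * (w * c)⁻¹ = a * w * a⁻¹ * w⁻¹ := by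
      have h6 := hca a ha
      calc a * (w * c) * a⁻¹ * (w * c)⁻¹ = a * w * (c * a⁻¹) * c⁻¹ * w⁻¹ := by group
        _ = a * w * (a⁻¹ * c) * c⁻¹ * w⁻¹ := by
          have h7 : c * a⁻¹ = a⁻¹ * c := by
            calc c * a⁻¹ = a⁻¹ * (a * c) * a⁻¹ := by group
              _ = a⁻¹ * (c * a) * a⁻¹ := by rw [h6]
              _ = a⁻¹ * c := by group
          rw [h7]
        _ = a * w * a⁻¹ * w⁻¹ := by group
    rw [h5, h2]
    obtain ⟨β, hβ⟩ := O.act a ha
    have haP := h'.SP' (hA ha)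
    refine ⟨NO3S.KeyRad.mem_blk haP hβ hw, ?_⟩
    rw [h'.e_div (h'.memV haP hw) hw, Pi.add_apply, Pi.add_apply, hβ.1 w hw i, NO3S.ThmB.sg_self, NO3S.ThmB.ap_up_1]
    exact CharTwo.add_self_eq_zero _
  refine ⟨b, hb, fun c hc => ?_, by rw [h1, h2]; exact hR, ?_, hcomm⟩
  · -- the other blocks
    intro a ha
    have haM : a ∈ MZ (S : Subgroup G) := WLeft.S_le_MZ B (hA ha)
    have hlN : l b ≤ N b := by rw [h1, h2]; exact NS.YY_le h' i
    have hNW : ∀ d, N d ≤ Wd (S : Subgroup G) := fun d => by rw [← hsup]; exact le_iSup N d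
    obtain ⟨c', hc', -⟩ := h.perm a haM c
    have key : ∀ x ∈ N c, a * x * a⁻¹ ∈ N c' := fun x hx => by
      rw [← hc']; exact ⟨x, hx, rfl⟩
    have h6 : c' = c := by
      by_contra hne'
      apply h.dec.ne c
      rw [eq_bot_iff]
      intro x hx
      have h7 := hlN (hcomm a ha x (hNW c hx))
      have h8 : x ∈ ⨆ (d) (_ : d ≠ c), N d := by
        have e : x = (a * x * a⁻¹ * x⁻¹)⁻¹ * (a * x * a⁻¹) := by group
        rw [e]
        exact mul_mem (inv_mem ((le_iSup₂_of_le b (Ne.symm hc) le_rfl : N b ≤ ⨆ (d) (_ : d ≠ c), N d) h7))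
          ((le_iSup₂_of_le c' hne' le_rfl : N c' ≤ ⨆ (d) (_ : d ≠ c), N d) (key x hx))
      exact (disjoint_iff_inf_le.1 (ind c)) ⟨hx, h8⟩
    subst h6
    refine mem_centralizer_iff.2 fun x hx => ?_
    have h7 := hlN (hcomm a ha x (hNW _ hx))
    have h8 : a * x * a⁻¹ * x⁻¹ ∈ N c' := mul_mem (key x hx) (inv_mem hx)
    have h9 := (disjoint_iff_inf_le.1 (ind c')) ⟨h8, (le_iSup₂_of_le b (Ne.symm hc) le_rfl :
      N b ≤ ⨆ (d) (_ : d ≠ c'), N d) h7⟩
    rw [mem_bot] at h9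
    calc x * a = (a * x * a⁻¹ * x⁻¹)⁻¹ * (a * x) := by group
      _ = a * x := by rw [h9]; group
  · rw [h2, h3]; exact PNat.card_YY h' spl i

theorem comm_eq {V A N' l' : Subgroup G} (hNV : N' ≤ V) (hR : RootOn A N' l')
    (hne : ¬ A ≤ centralizer (N' : Set G)) (hc : ∀ a ∈ A, ∀ v ∈ V, a * v * a⁻¹ * v⁻¹ ∈ l') : ⁅V, A⁆ = l' := by
  apply le_antisymm
  · rw [commutator_le]
    intro v hv a ha
    rw [commutatorElement_def]
    have e : v * a * v⁻¹ * a⁻¹ = (a * v * a⁻¹ * v⁻¹)⁻¹ := by group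
    rw [e]
    exact inv_mem (hc a ha v hv)
  · intro z hz
    rcases hR.full with h0 | h0
    · exact absurd h0 hne
    have h1 : ∃ v ∈ N', v ∉ l' := by
      by_contra hcon
      push Not at hcon
      exact hne fun a ha => mem_centralizer_iff.2 fun v hv => (hR.fixZ a ha v (hcon v hv)).symm
    obtain ⟨v, hv, hvl⟩ := h1
    obtain ⟨f, hf, hfz⟩ := (h0 v hv hvl).1 z⁻¹ (inv_mem hz)
    have e : z = v * f * v⁻¹ * f⁻¹ := by
      calc z = (f * v * f⁻¹ * v⁻¹)⁻¹ := by rw [hfz, inv_inv]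
        _ = v * f * v⁻¹ * f⁻¹ := by group
    have h2 := commutator_mem_commutator (hNV hv) hf
    rw [commutatorElement_def] at h2
    rw [e]
    exact h2

end Cfsg.Agent.Omega.NOThreeL.RRed.QFr.MinOne
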