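import Cfsg.Agent.Omega.NOThreeL.RRed.WideTree
import Cfsg.Agent.Omega.NOThreeL.RWide.PInInst

/-!
# Offenders on `V*` are products of full root groups: the field `off` of `Bq` (helper540)

* `best_of` : the `Y`-form of 'best offender on `V`' restricts to `IsBestOffenderOn 2 W A`, `W ≤ V`;
* `RootOn.card` : `RootOn A N l`, `A` moves `N` ⟹ `|l| |C_A(N)| ≤ |A|`;
* **`off_of`** : `Src S N l q`, all `N b ≤ V` ⟹ the field `off` of `QFr.Bq`;
* `rootOn_of` : the same, `RootOn A (N i) (l i)`.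
-/

set_option autoImplicit false
set_option linter.unusedSectionVars false

namespace Cfsg.Agent.Omega.NOThreeL.RRed.QFr.OffOf

open Subgroup Cfsg Cfsg.Agent.ZN
open Cfsg.Agent.Omega.FFThm (ElemM)
open Cfsg.Agent.Omega.NO3S.ThmB (Nb)
open Cfsg.Agent.Omega.NO3S.KeyRad (blk)
open Cfsg.Agent.Omega.NOThreeL.RRed.WideTree
open Cfsg.Agent.Omega.NOThreeL.RWide (RootOn)
open Cfsg.Agent.Omega.NOThreeL.RWide

universe u

variable {G : Type u} [Group G] [Finite G]

theorem best_of {V W A : Subgroup G} (hWV : W ≤ V) (hA : ElemM V A)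
    (hb : ∀ Y : Subgroup G, Y ≤ V → Nat.card ↥(A ⊓ centralizer (Y : Set G)) * Nat.card Y ≤
      Nat.card A * Nat.card ↥(Y ⊓ centralizer (A : Set G))) : IsBestOffenderOn 2 W A := by
  refine ⟨fun B hB => ?_, ?_, fun a ha => centralizer_le hWV (hA.sq a ha)⟩
  · have h1 := hb (W ⊓ centralizer (B : Set G)) (inf_le_left.trans hWV)
    have h2 : Nat.card B ≤ Nat.card ↥(A ⊓ centralizer ((W ⊓ centralizer (B : Set G) : Subgroup G) : Set G)) :=
      card_le_of_le (le_inf hB fun b hb' => mem_centralizer_iff.2 fun w hw => (mem_centralizer_iff.1 hw.2 b hb').symm)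
    have h3 : Nat.card ↥(W ⊓ centralizer (B : Set G) ⊓ centralizer (A : Set G)) ≤
        Nat.card ↥(W ⊓ centralizer (A : Set G)) := card_le_of_le (inf_le_inf_right _ inf_le_left)
    exact (Nat.mul_le_mul_right _ h2).trans (h1.trans (Nat.mul_le_mul_left _ h3))
  · rw [commutator_le]
    intro a ha b hb'
    rw [commutatorElement_def]
    exact centralizer_le hWV (hA.comm a ha b hb')

theorem RootOn.card {A N l : Subgroup G} (h : RootOn A N l) (hne : ¬ A ≤ centralizer (N : Set G)) :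
    Nat.card l * Nat.card ↥(A ⊓ centralizer (N : Set G)) ≤ Nat.card A := by
  rcases h.full with h0 | h0
  · exact absurd h0 hne
  have h1 : ∃ v ∈ N, v ∉ l := by
    by_contra hcon
    push Not at hcon
    exact hne fun a ha => mem_centralizer_iff.2 fun v hv => (h.fixZ a ha v (hcon v hv)).symm
  obtain ⟨v, hv, hvl⟩ := h1
  obtain ⟨h2, h3⟩ := h0 v hv hvl
  choose f hf hfz using h2
  rw [← Nat.card_prod]
  refine Nat.card_le_card_of_injective (fun p : l × ↥(A ⊓ centralizer (N : Set G)) =>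
    (⟨f p.1 p.1.2 * p.2, mul_mem (hf _ _) p.2.2.1⟩ : A)) ?_
  rintro ⟨z, c⟩ ⟨z', c'⟩ heq
  have e1 : f z z.2 * (c : G) = f z' z'.2 * (c' : G) := congrArg Subtype.val heq
  have key : ∀ (x : l) (d : ↥(A ⊓ centralizer (N : Set G))),
      (f x x.2 * (d : G)) * v * (f x x.2 * (d : G))⁻¹ * v⁻¹ = x := by
    intro x d
    have h4 : (d : G) * v = v * d := (mem_centralizer_iff.1 d.2.2 v hv).symm
    have h5 : (f x x.2 * (d : G)) * v * (f x x.2 * (d : G))⁻¹ * v⁻¹ =
        f x x.2 * ((d : G) * v) * (d : G)⁻¹ * (f x x.2)⁻¹ * v⁻¹ := by group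
    rw [h5, h4]
    have h6 : f x x.2 * (v * (d : G)) * (d : G)⁻¹ * (f x x.2)⁻¹ * v⁻¹ = f x x.2 * v * (f x x.2)⁻¹ * v⁻¹ := by group
    rw [h6]
    exact hfz x x.2
  have e2 : z = z' := by
    apply Subtype.ext
    rw [← key z c, ← key z' c', e1]
  subst e2
  have e3 : (c : G) = c' := mul_left_cancel e1
  exact Prod.ext rfl (Subtype.ext e3)

variable {S : Sylow 2 G} {ι : Type u} {N l : ι → Subgroup G} {q : ι → ℕ} {V : Subgroup G}

theorem rootOn_of (hs : Src (S : Subgroup G) N l q) (NV : ∀ b, N b ≤ V) {A : Subgroup G} (hA : A ≤ (S : Subgroup G))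
    (hE : ElemM V A) (hb : ∀ Y : Subgroup G, Y ≤ V → Nat.card ↥(A ⊓ centralizer (Y : Set G)) * Nat.card Y ≤
      Nat.card A * Nat.card ↥(Y ⊓ centralizer (A : Set G))) (i : ι) : RootOn A (N i) (l i) ∧ Nat.card (l i) = q i := by
  obtain ⟨P, -, F, _, _, _, k, -, M, h, spl, ⟨j, h1, h2, h3⟩, h4⟩ := hs.mov i
  have hW : (⨆ a, blk M a) ≤ V := iSup_le fun a => by
    obtain ⟨c, hc, -⟩ := h4 a
    rw [← hc]; exact NV c
  rw [h1, h2, h3]
  exact ⟨PInst.ffp h spl hA (best_of hW hE hb) j, PNat.card_YY h spl j⟩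

/-- **the field `off` of `Bq`** -/
theorem off_of (hs : Src (S : Subgroup G) N l q) (NV : ∀ b, N b ≤ V) (A : Subgroup G) (hA : A ≤ (S : Subgroup G))
    (hE : ElemM V A) (hb : ∀ Y : Subgroup G, Y ≤ V → Nat.card ↥(A ⊓ centralizer (Y : Set G)) * Nat.card Y ≤
      Nat.card A * Nat.card ↥(Y ⊓ centralizer (A : Set G))) (i : ι) :
    A ≤ centralizer (N i : Set G) ∨ ((∀ a ∈ A, ∀ z ∈ l i, a * z = z * a) ∧
      (∀ a ∈ A, ∀ v ∈ N i, a * v * a⁻¹ * v⁻¹ ∈ l i) ∧
      q i * Nat.card ↥(A ⊓ centralizer (N i : Set G)) ≤ Nat.card A) := by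
  obtain ⟨h1, h2⟩ := rootOn_of hs NV hA hE hb i
  by_cases hne : A ≤ centralizer (N i : Set G)
  · exact Or.inl hne
  · refine Or.inr ⟨h1.fixZ, h1.comm, ?_⟩
    rw [← h2]
    exact RootOn.card h1 hne

end Cfsg.Agent.Omega.NOThreeL.RRed.QFr.OffOf
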