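import Cfsg.Agent.Omega.NOThreeL.RRed.QFr.NatCor
import Cfsg.Agent.Omega.NOThreeL.RRed.QFr.OffOf
import Cfsg.Agent.Omega.NOThreeL.RRed.SemiNB
import Cfsg.Agent.Omega.NOThreeL.RRed.BFr.StageQ

/-!
# NO-3L, box R: the natural blocks `Bq` from `NBs` + `Src` (v5) of one class, all `q b = q ≥ 4`

* **`bq_of`** : `NBs S N E D l (fun _ => q)`, `Src`, `CM S (fun _ => V*)` (one class), `q ≥ 4`, `f : κ ≃ ι` ⟹
  `Bq S ⟨P*(S)⟩ V* (N ∘ f) (D ∘ f) (l ∘ f) (fun k => ∏_{j ≠ k} N (f j)) q`.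
-/

set_option autoImplicit false
set_option linter.unusedSectionVars false

namespace Cfsg.Agent.Omega.NOThreeL.RRed.QFr.OfNBs

open Subgroup Cfsg Cfsg.Agent.ZN Cfsg.Agent.ZN.ChoiceBase
open Cfsg.Agent.Omega.SQ1.Bau (elem_comm)
open Cfsg.Agent.Omega.OM.SwapV.Q (CorA)
open Cfsg.Agent.Omega.NOThreeL.RTree
open Cfsg.Agent.Omega.NOThreeL.Merge (MZ)
open Cfsg.Agent.Omega.NOThreeL.RRed.WideTree (NatBlk NBs Src CM)
open Cfsg.Agent.Omega.NOThreeL.RRed.Blk (IsC)

universe u

variable {G : Type u} [Group G] [Finite G] {S : Sylow 2 G} {ι : Type u} {N E D l : ι → Subgroup G} {q : ℕ}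
  {κ : Type}

/-- one class: `⟨P*(S)⟩` is transitive on the blocks -/
theorem tr_of (h : NBs (S : Subgroup G) N E D l (fun _ => q))
    (hc : CM (S : Subgroup G) (fun _ : PUnit.{u + 1} => Wd (S : Subgroup G))) (i j : ι) :
    ∃ g ∈ MZ (S : Subgroup G), cj g (N i) = N j := by
  by_contra hcon
  push Not at hcon
  let T := {k : ι // ∃ g ∈ MZ (S : Subgroup G), cj g (N i) = N k}
  have hinv : MZ (S : Subgroup G) ≤ normalizer ((⨆ k : T, N k.1 : Subgroup G) : Set G) := by
    have key : ∀ g ∈ MZ (S : Subgroup G), cj g (⨆ k : T, N k.1) ≤ ⨆ k : T, N k.1 := by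
      intro g hg
      rw [show cj g (⨆ k : T, N k.1) = ⨆ k : T, cj g (N k.1) from Subgroup.map_iSup _ _]
      refine iSup_le fun k => ?_
      obtain ⟨c, hc', -⟩ := h.dec.perm g hg k.1
      have hc2 : cj g (N k.1) = N c := hc'
      obtain ⟨x, hx, hxk⟩ := k.2
      rw [hc2]
      exact le_iSup (fun k : T => N k.1) ⟨c, g * x, mul_mem hg hx, by rw [← cj_cj, hxk, hc2]⟩
    intro g hg
    rw [mem_normalizer_iff_cj]
    refine le_antisymm (key g hg) ?_
    have h1 := cj_mono g (key g⁻¹ (inv_mem hg))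
    rwa [cj_cj_inv] at h1
  have hne : (⨆ k : T, N k.1) ≠ ⊥ := by
    intro e
    apply h.dec.ne i
    rw [eq_bot_iff, ← e]
    exact le_iSup (fun k : T => N k.1) ⟨i, 1, one_mem _, cj_one _⟩
  have hU : (⨆ k : T, N k.1) ≤ Wd (S : Subgroup G) := iSup_le fun k => h.dec.NU k.1
  have h1 := hc.irr PUnit.unit _ hU hinv hne
  have h2 : N j ≤ N j ⊓ ((⨆ c : {c // c ≠ j}, N c) ⊔ ⊥) := by
    refine le_inf le_rfl ((h.dec.NU j).trans (h1.trans ?_))
    refine iSup_le fun k => ?_
    refine (le_iSup (fun c : {c // c ≠ j} => N c) ⟨k.1, ?_⟩).trans le_sup_left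
    rintro e
    obtain ⟨g, hg, hgk⟩ := k.2
    exact hcon g hg (by rw [hgk, e])
  rw [h.dec.ind j] at h2
  exact h.dec.ne j (le_bot_iff.1 h2)

theorem card_line {S D N l : Subgroup G} {F : Type} [Field F] [Finite F] {e : G → Fin 2 → F}
    (h : NatBlk S D N l F e) : ∃ z ∈ l, z ≠ 1 := by
  obtain ⟨v, hv, he⟩ := h.sur ![1, 0]
  refine ⟨v, (h.line v).2 ⟨hv, by rw [he]; rfl⟩, ?_⟩
  rintro rfl
  have h2 := h.mul 1 (one_mem _) 1 (one_mem _)
  rw [mul_one] at h2
  have h3 : e 1 = 0 := left_eq_add.1 h2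
  rw [h3] at he
  have h4 := congrFun he 0
  simp at h4

theorem line_le {S D N l : Subgroup G} {F : Type} [Field F] [Finite F] {e : G → Fin 2 → F}
    (h : NatBlk S D N l F e) : l ≤ N := fun v hv => ((h.line v).1 hv).1

/-- the lines determine the blocks -/
theorem l_inj {q : ι → ℕ} (h : NBs (S : Subgroup G) N E D l q) {b c : ι} (e : l b = l c) : b = c := by
  by_contra hbc
  obtain ⟨F, _, _, _, eb, -, hb⟩ := h.nat b
  obtain ⟨F', _, _, _, ec, -, hc⟩ := h.nat c
  obtain ⟨z, hz, hz1⟩ := card_line hb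
  have h2 : z ∈ N b ⊓ ((⨆ c : {c // c ≠ b}, N c) ⊔ ⊥) := mem_inf.2 ⟨line_le hb hz, by
    rw [e] at hz
    exact ((le_iSup (fun d : {d // d ≠ b} => N d) ⟨c, fun e' => hbc e'.symm⟩).trans le_sup_left) (line_le hc hz)⟩
  rw [h.dec.ind b, mem_bot] at h2
  exact hz1 h2

/-- **The natural blocks `Bq` of one class.** -/
theorem bq_of (B : RB S) (h : NBs (S : Subgroup G) N E D l (fun _ => q))
    (hs : Src (S : Subgroup G) N l (fun _ => q)) (hq : 4 ≤ q)
    (hc : CM (S : Subgroup G) (fun _ : PUnit.{u + 1} => Wd (S : Subgroup G))) [Finite κ] (f : κ ≃ ι) :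
    Bq S (MZ (S : Subgroup G)) (Wd (S : Subgroup G)) (fun k => N (f k)) (fun k => D (f k)) (fun k => l (f k))
      (fun k => ⨆ j : {j // j ≠ k}, N (f j)) q := by
  have hfin : Finite ι := Finite.of_equiv κ f
  have hNV : ∀ i, N i ≤ Wd (S : Subgroup G) := h.dec.NU
  have hC : ∀ k : κ, (⨆ j : {j // j ≠ k}, N (f j)) = (⨆ c : {c // c ≠ f k}, N c) := by
    intro k
    apply le_antisymm
    · exact iSup_le fun j => le_iSup (fun c : {c // c ≠ f k} => N c) ⟨f j, fun e => j.2 (f.injective e)⟩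
    · refine iSup_le fun c => ?_
      have h1 : N (c : ι) = N (f (f.symm c)) := by rw [f.apply_symm_apply]
      rw [h1]
      exact le_iSup (fun j : {j // j ≠ k} => N (f j)) ⟨f.symm c, fun e => c.2 ((f.symm_apply_eq).1 e)⟩
  have hCo : ∀ k : κ, (⨆ j : {j // j ≠ k}, N (f j)) = Blk.Co N ⊥ (f k) := by
    intro k
    rw [hC k, Blk.Co, sup_bot_eq]
  have hDM : ∀ i, D i ≤ MZ (S : Subgroup G) := fun i => (h.DE i).trans (h.dec.EL i)
  exact
  { SM := h.dec.SL
    VS := WS B
    MV := fun g hg v hv => (mem_normalizer_iff.1 (h.dec.LU hg) v).1 hv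
    MQ := BFr.StageQ.MQ
    el := BFr.StageQ.W_elem B
    NV := fun k => hNV _
    CV := fun k => iSup_le fun j => hNV _
    WC := fun k v hv => by
      obtain ⟨n, hn⟩ := h.dec.ex_comp (f k) hv
      refine ⟨n, hn.1, n⁻¹ * v, ?_, by group⟩
      rw [hCo k]
      exact hn.2
    dir := fun k => by
      rw [hCo k]
      exact h.dec.ind (f k)
    C0 := fun x hx hxC => by
      have h1 := h.dec.mem_R hx fun b => by
        have h2 := hxC (f.symm b)
        rw [hCo, f.apply_symm_apply] at h2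
        exact h.dec.comp_one h2
      exact mem_bot.1 h1
    WjC := fun i j hij => le_iSup (fun j : {j // j ≠ i} => N (f j)) ⟨j, fun e => hij e.symm⟩
    sup := by
      have h1 := h.dec.sup
      rw [sup_bot_eq] at h1
      rw [← h1]
      exact iSup_le fun i => by
        have h2 : N i = N (f (f.symm i)) := by rw [f.apply_symm_apply]
        rw [h2]
        exact le_iSup (fun k => N (f k)) (f.symm i)
    Csup := fun i => le_rfl
    perm := fun g hg i => by
      obtain ⟨c, h1, -, h3⟩ := h.dec.perm' hg (f i)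
      have h1' : cj g (N (f i)) = N (f (f.symm c)) := by rw [f.apply_symm_apply]; exact h1
      refine ⟨f.symm c, h1', le_antisymm ?_ ?_⟩
      · rw [hCo (f.symm c), hCo i, f.apply_symm_apply]
        rintro _ ⟨x, hx, rfl⟩
        exact h3 x hx
      · obtain ⟨d, g1, -, g3⟩ := h.dec.perm' (inv_mem hg) c
        have g1' : cj g⁻¹ (N c) = N d := g1
        have e1 : cj g⁻¹ (N c) = N (f i) := by
          have h1'' : cj g (N (f i)) = N c := h1
          rw [← h1'', cj_cj, inv_mul_cancel, cj_one]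
        have e2 : d = f i := h.dec.Ninj (by rw [← g1', e1])
        subst e2
        rw [hCo (f.symm c), hCo i, f.apply_symm_apply]
        intro x hx
        refine ⟨g⁻¹ * x * g⁻¹⁻¹, g3 x hx, ?_⟩
        show g * (g⁻¹ * x * g⁻¹⁻¹) * g⁻¹ = x
        group
    permS := fun s hs' i => by
      obtain ⟨c, h1, h2, h3⟩ := h.sD s hs' (f i)
      refine ⟨f.symm c, ?_, ?_, ?_⟩
      · rw [f.apply_symm_apply]; exact h1
      · rw [f.apply_symm_apply]; exact h3
      · rw [f.apply_symm_apply]; exact h2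
    tr := fun i j => tr_of h hc (f i) (f j)
    DM := fun i => hDM _
    DC := fun i d hd c hc' => by
      have h1 : (⨆ j : {j // j ≠ i}, N (f j)) ≤ centralizer ({d} : Set G) := iSup_le fun j v hv => by
        refine mem_centralizer_singleton_iff.2 ?_
        have h2 := h.dec.EC (f i) (f j) (fun e => j.2 (f.injective e).symm) (h.DE _ hd)
        exact mem_centralizer_iff.1 h2 v hv
      exact (mem_centralizer_singleton_iff.1 (h1 hc')).symm
    q4 := hq
    nat := fun i => by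
      obtain ⟨F, i1, i2, i3, e, hF, hn⟩ := h.nat (f i)
      obtain ⟨e', h1, h2⟩ := corA_of S.2 hn ((h.DE _).trans (h.dec.EN _)) fun s hs' hsl => by
        obtain ⟨c, g1, g2, g3⟩ := h.sD s hs' (f i)
        have g3' : cj s (l (f i)) = l c := g3
        have e1 : c = f i := l_inj h (by rw [← g3', hsl])
        subst e1
        have hsN : s ∈ normalizer (N (f i) : Set G) := (mem_normalizer_iff_cj).2 g1
        exact ⟨hsN, (SemiNB.nbs_norm h h.sD hs' hsN).1⟩
      exact ⟨F, i1, i2, i3, e', hF, h1, h2⟩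
    off := fun A hA hE hb i => OffOf.off_of hs hNV A hA hE hb (f i) }

end Cfsg.Agent.Omega.NOThreeL.RRed.QFr.OfNBs
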