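import Cfsg.Agent.Omega.NOThreeL.RRed.QFr.Top

/-!
# NO-3L, box R, natural blocks, `q ≥ 4` : the frame with `L i ≤ D i · C_G(Z_J)`

* `XX_le_D` : the group over the block `i` lies in `D i · C_G(Z_J)`;
* `exists_L'`, **`exists_frL'`** : 461's `exists_L`, `exists_frL` (`QFr/Frame.lean`) with this additional output;
* **`exists_top'`** : `exists_top` (`QFr/Top.lean`) with the additional output `L i ≤ D i ⊔ C_G(Z_J)`.
-/

set_option autoImplicit false
set_option linter.unusedSectionVars false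

namespace Cfsg.Agent.Omega.NOThreeL.RRed.QFr

open Subgroup Cfsg Cfsg.Agent.ZN Cfsg.Agent.ZN.ChoiceBase
open Cfsg.Agent.Lib.SL2Mat
open Cfsg.Agent.Omega.NatPair hiding cj
open Cfsg.Agent.Omega.SQ1.Bau (mem_sup_comm card_sup_comm elem_comm elem_sq mem_sup_norm)
open Cfsg.Agent.Omega.OM.Lev.Uni (Best FrL)
open Cfsg.Agent.Omega.OM.Uni (FB NX)
open Cfsg.Agent.Omega.FFThm (ElemM)
open Cfsg.Agent.Omega.NO3S.OneLine (BFam)
open Cfsg.Agent.Omega.OM.FourF (Act)
open Cfsg.Agent.Omega.OM.SwapV.Q (CorA Cor cj_eq_of_comm)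

universe u

variable {G : Type u} [Group G]

variable {ι : Type} {S : Sylow 2 G} {M V : Subgroup G} {N D l C : ι → Subgroup G} {q : ℕ} {X L J : Subgroup G}
  {AA : Set (Subgroup G)} (h : Lq S M V N D l C q X L J AA)

/-- **the group over the block `i` lies in `D i · C(Z_J)`** -/
theorem XX_le_D [Finite G] {F : Type} [Field F] (e : G → F × F) (i : ι) (c : CorA F (S : Subgroup G) (N i) (l i) e)
    (s : SLA F (D i) (N i) e) : XX e i h ≤ D i ⊔ centralizer (ZJ V J : Set G) := by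
  intro m hm
  obtain ⟨A, hA⟩ := hm.2.2.1
  obtain ⟨g, hg, hga⟩ := s.lift (ent A 0 0) (ent A 0 1) (ent A 1 0) (ent A 1 1) (det_eq A)
  have hgX : g ∈ XX e i h := D_le_XX h e i s hg
  -- `m` and `g` agree on `N i`
  have hag : ∀ v ∈ N i, g * v * g⁻¹ = m * v * m⁻¹ := by
    intro v hv
    refine c.inj _ (XX_norm h e i hgX i v hv) _ (XX_norm h e i hm i v hv) ?_
    rw [hga v hv, pv_act hA v hv]
  have hx : g⁻¹ * m ∈ XX e i h := mul_mem (inv_mem hgX) hm
  have hc : g⁻¹ * m ∈ centralizer (ZJ V J : Set G) := by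
    refine mem_centralizer_iff.2 fun z hz => (h.cent_ZJ hx.1 (fun j => XX_norm h e i hx j) (fun j => ?_) hz).symm
    by_cases hj : j = i
    · subst hj
      intro z hz
      have h1 := hag z (h.b.lN j hz)
      have h2 : m * z = g * z * g⁻¹ * m := by rw [h1]; group
      calc g⁻¹ * m * z = g⁻¹ * (m * z) := by group
        _ = g⁻¹ * (g * z * g⁻¹ * m) := by rw [h2]
        _ = z * (g⁻¹ * m) := by group
    · exact XX_l h e i hx hj
  have h3 := mul_mem (le_sup_left (a := D i) (b := centralizer (ZJ V J : Set G)) hg)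
    (le_sup_right (a := D i) (b := centralizer (ZJ V J : Set G)) hc)
  rwa [mul_inv_cancel_left] at h3

variable [Finite G] [Finite ι]
include h

/-- the block groups, inside `D i · C(Z_J)` -/
theorem exists_L' (hz : ZcQ (S : Subgroup G) V) (i : ι) : ∃ Lb : Subgroup G, Lb ≤ M ∧
    Lb ≤ D i ⊔ centralizer (ZJ V J : Set G) ∧
    FB (BB (S : Subgroup G) V J) Lb (N i) (l i) q ∧ (∀ m ∈ Lb, ∀ z ∈ ZJ V J, z ∈ C i → m * z = z * m) ∧
    ∃ (F : Type) (_ : Field F) (_ : Finite F) (_ : CharP F 2) (e : G → F × F), Nat.card F = q ∧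
      CorA F (S : Subgroup G) (N i) (l i) e ∧ ∀ a b c d : F, a * d - b * c = 1 → ∃ g ∈ Lb,
        g ∈ normalizer (N i : Set G) ∧ Act (N i) e g (fun p => (a * p.1 + b * p.2, c * p.1 + d * p.2)) ∧
          ∀ j, j ≠ i → ∀ w ∈ N j, g * w = w * g := by
  classical
  have := Fintype.ofFinite ι
  obtain ⟨F, i1, i2, i3, e, hF, c, s⟩ := h.b.nat i
  obtain ⟨Lb, hB, hX, hFB, hcov, -⟩ := (nx h e i hF c s hz).exists_block
  rw [hF, nx_Zs] at hFB
  refine ⟨Lb, hX.trans (XX_le_M h e i), hX.trans (XX_le_D h e i c s), hFB, fun m hm z hz1 hz2 => XX_cent h e i (hX hm) hz1 hz2, F, i1, i2, i3, e, hF, c,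
    fun a b c' d hd => ?_⟩
  obtain ⟨g₀, hg₀, hga⟩ := hcov (Cfsg.Agent.Lib.SL2Mat.mk a b c' d hd)
  -- correct the action on the other blocks
  have key : ∀ t : Finset ι, i ∉ t → ∃ g ∈ Lb, (∀ v ∈ N i, pv e (g * v * g⁻¹) =
      ap (Cfsg.Agent.Lib.SL2Mat.mk a b c' d hd) (pv e v)) ∧ ∀ j ∈ t, ∀ w ∈ N j, g * w = w * g := by
    intro t
    induction t using Finset.induction_on with
    | empty => exact fun _ => ⟨g₀, hg₀, hga, fun j hj => absurd hj (Finset.notMem_empty j)⟩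
    | insert j t hj ih =>
      intro hi
      obtain ⟨g, hg, h1, h2⟩ := ih fun h3 => hi (Finset.mem_insert_of_mem h3)
      have hji : j ≠ i := fun e1 => hi (e1 ▸ Finset.mem_insert_self j t)
      obtain ⟨x, hx, -, hx2⟩ := (hX hg).2.2.2 j hji
      obtain ⟨F', _, _, _, e', hF', c2, -⟩ := h.b.nat j
      obtain ⟨m, hm⟩ := h.B_act c2 hx
      obtain ⟨A, hA, hA1, hfull⟩ := h.A_full hF' c2
      obtain ⟨y, hy, hym⟩ := hfull m
      have hyB : y ∈ BB (S : Subgroup G) V J := h.J_le_B (h.lv.AJ A hA hy)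
      have hxy : ∀ w ∈ N j, g * w * g⁻¹ = y * w * y⁻¹ := by
        intro w hw
        rw [hx2 w hw]
        refine c2.inj _ (h.B_mem hx j hw) _ (h.B_mem hyB j hw) ?_
        rw [hm w hw, hym w hw]
      refine ⟨y⁻¹ * g, mul_mem (inv_mem (hB hyB)) hg, fun v hv => ?_, fun k hk w hw => ?_⟩
      · have h3 : y⁻¹ * g * v * (y⁻¹ * g)⁻¹ = g * v * g⁻¹ := by
          have h4 := XX_norm h e i (hX hg) i v hv
          have h5 := mem_centralizer_iff.1 (hA1 i (Ne.symm hji) hy) _ h4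
          calc y⁻¹ * g * v * (y⁻¹ * g)⁻¹ = y⁻¹ * ((g * v * g⁻¹) * y) := by group
            _ = y⁻¹ * (y * (g * v * g⁻¹)) := by rw [h5]
            _ = g * v * g⁻¹ := by group
        rw [h3]
        exact h1 v hv
      · rcases Finset.mem_insert.1 hk with rfl | hk'
        · have h3 := hxy w hw
          have h4 : g * w = y * w * y⁻¹ * g := by rw [← h3]; group
          calc y⁻¹ * g * w = y⁻¹ * (g * w) := by group
            _ = y⁻¹ * (y * w * y⁻¹ * g) := by rw [h4]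
            _ = w * (y⁻¹ * g) := by group
        · by_cases hkj : k = j
          · subst hkj
            have h3 := hxy w hw
            have h4 : g * w = y * w * y⁻¹ * g := by rw [← h3]; group
            calc y⁻¹ * g * w = y⁻¹ * (g * w) := by group
              _ = y⁻¹ * (y * w * y⁻¹ * g) := by rw [h4]
              _ = w * (y⁻¹ * g) := by group
          · have h3 : Commute g w := h2 k hk' w hw
            have h4 : Commute y w := (mem_centralizer_iff.1 (hA1 k hkj hy) w hw).symm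
            exact (h4.inv_left.mul_left h3).eq
  obtain ⟨g, hg, h1, h2⟩ := key (Finset.univ.erase i) (Finset.notMem_erase i _)
  refine ⟨g, hg, ?_, ?_, fun j hj => h2 j (Finset.mem_erase.2 ⟨hj, Finset.mem_univ j⟩)⟩
  · exact mem_normalizer_iff_cj.2 (Lq.nC h.b (hX hg).1 (XX_norm h e i (hX hg) i)).1
  · have h3 := pv_act h1
    simpa [mk_00, mk_01, mk_10, mk_11] using h3

/-- **THE FRAME OVER `B`**, `L i ≤ D i · C(Z_J)`. -/
theorem exists_frL' (hz : ZcQ (S : Subgroup G) V) : ∃ Lb A : ι → Subgroup G, (∀ i, Lb i ≤ M) ∧ (∀ i, A i ∈ AA) ∧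
    (∀ i, Lb i ≤ D i ⊔ centralizer (ZJ V J : Set G)) ∧
    FrL (BB (S : Subgroup G) V J) ((S : Subgroup G) ⊓ centralizer (V : Set G)) V X (ZJ V J) Lb N l C A q ∧
    ∀ i, ∃ (F : Type) (_ : Field F) (_ : Finite F) (_ : CharP F 2), Nat.card F = q ∧
      ∃ e : G → F × F, Cor F (S : Subgroup G) (BB (S : Subgroup G) V J) Lb N l i e := by
  choose Lb hLM hLD hFB hLC hco using exists_L' h hz
  choose A hA h1 h2 h3 h4 h5 using h.exists_A
  have hfr : FrL (BB (S : Subgroup G) V J) ((S : Subgroup G) ⊓ centralizer (V : Set G)) V X (ZJ V J) Lb N l C A q :=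
    { blk := hFB
      cardZ := h.b.card_l
      QB := h.Q_le_B
      VQ := fun v hv => ⟨h.b.VS hv, mem_centralizer_iff.2 fun u hu => h.b.Vc hu hv⟩
      elX := h.lv.elX
      VX := h.lv.VX
      mem_Q := fun x hx => ⟨fun hq v hv => (mem_centralizer_iff.1 hq.2 v hv).symm, fun hc =>
        ⟨(Lq.mem_BB.1 hx).1, mem_centralizer_iff.2 fun v hv => (hc v hv).symm⟩⟩
      zcQ := hz
      mem_ZJ := fun v => ⟨fun hv => ⟨(Lq.mem_ZJ.1 hv).1, fun x hx => (Lq.mem_BB.1 hx).2 v hv⟩, fun hv =>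
        Lq.mem_ZJ.2 ⟨hv.1, fun y hy => hv.2 y (h.J_le_B hy)⟩⟩
      LV := fun i m hm v hv => h.b.MV m (hLM i hm) v hv
      LQ := fun i m hm x hx => by
        have hmM := hLM i hm
        refine ⟨h.b.MQ m hmM x hx, mem_centralizer_iff.2 fun v hv => ?_⟩
        have h6 := mem_centralizer_iff.1 hx.2 (m⁻¹ * v * m) (by simpa using h.b.MV m⁻¹ (inv_mem hmM) v hv)
        calc v * (m * x * m⁻¹) = m * ((m⁻¹ * v * m) * x) * m⁻¹ := by group
          _ = m * x * m⁻¹ * v := by rw [h6]; group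
      LX := fun i m hm x hx => h.lv.MX m (hLM i hm) x hx
      WV := h.b.NV
      CV := h.b.CV
      WC := h.b.WC
      dir := h.b.dir
      C0 := h.b.C0
      WjC := h.b.WjC
      BC := fun i x hx c hc => h.B_memC hx i hc
      LC := fun i m hm z hz1 hz2 => hLC i m hm z hz1 hz2
      AB := fun i a ha => h.J_le_B (h.lv.AJ _ (hA i) ha)
      AX := fun i => h.lv.fam.elem _ (hA i)
      best := fun i => h.lv.fam.best _ (hA i)
      Ane := fun i hcon => by
        obtain ⟨F, _, _, _, e, hF, c, -⟩ := h.b.nat i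
        obtain ⟨a, ha, hm⟩ := c.full_of (h.AS (hA i)) (h4 i) (h3 i) (by rw [hF]; exact h5 i) 1
        obtain ⟨v, hv, hve⟩ := c.surj (0, 1)
        have h6 := c.mem_of_fix one_ne_zero hm hv (hcon a ha v hv)
        have h7 := ((c.memZ v).1 h6).2
        rw [hve] at h7
        exact one_ne_zero h7
      AC := fun i a ha c hc => h2 i a ha c hc }
  refine ⟨Lb, A, hLM, hA, hLD, hfr, fun i => ?_⟩
  obtain ⟨F, i1, i2, i3, e, hF, c, hsl⟩ := hco i
  refine ⟨F, i1, i2, i3, hF, e, c.cor (fun x hx => (Lq.mem_BB.1 hx).1) (hfr.AB i)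
    (fun x hx z hz1 => (Lq.mem_BB.1 hx).2 z (h.l_ZJ i hz1)) (fun v hv hv1 z hz1 => ?_) hsl⟩
  exact OM.SWQ.ModQ.root hfr hv hv1 hz1

end Cfsg.Agent.Omega.NOThreeL.RRed.QFr

namespace Cfsg.Agent.Omega.NOThreeL.RRed.QFr.Top

open Subgroup Cfsg Cfsg.Agent.ZN.ChoiceBase Cfsg.Agent.Omega.MinPar
open Cfsg.Agent.ZN (zc zl o2 jj)
open Cfsg.Agent.Omega.SQ1.Bau (elem_comm elem_sq)
open Cfsg.Agent.Omega.FFThm (ElemM OffM)
open Cfsg.Agent.Omega.NO3S.OneLine (BFam bo bo_fam bo_eq)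
open Cfsg.Agent.Omega.NO3S.Level (nxt)
open Cfsg.Agent.Omega.OM.SwapT (ZT BT)
open Cfsg.Agent.Omega.OM.Lev.Uni (FrL)
open Cfsg.Agent.Omega.OM.WeakCl (WC)
open Cfsg.Agent.Omega.OM.SwapV.Q (Cor)
open Cfsg.Agent.Omega.NOThreeL.RTree
open Cfsg.Agent.Omega.NOThreeL.Merge (MZ)
open Cfsg.Agent.Omega.NOThreeL.RRed.WideTree (NBs Src Act)
open Cfsg.Agent.Omega.NOThreeL.RRed.BFr.StageQ (W_elem mv_of W_le_Q)

universe u

variable {G : Type u} [Group G] [Finite G] {S : Sylow 2 G}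

/-- **THE FRAME AT THE TOP LEVEL `(Q, V*)`**, `L i ≤ D i · C(Z_J)`. -/
theorem exists_top' {ι : Type} [Finite ι] {N D l C : ι → Subgroup G} {q : ℕ} (B : RB S)
    (b : Bq S (MZ (S : Subgroup G)) (Wd (S : Subgroup G)) N D l C q) (h : TopH S)
    (hmv : ∃ A ≤ (S : Subgroup G), OffM (Wd (S : Subgroup G)) A)
    (hsup : Wd (S : Subgroup G) = ⨆ P ∈ {P | IsParS (S : Subgroup G) P}, zl (S : Subgroup G) P) :
    ∃ Lb A : ι → Subgroup G, TopQ S Lb N l C A q ∧ (∀ i, A i ∈ bo (S : Subgroup G) (Wd (S : Subgroup G))) ∧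
      ∀ i, Lb i ≤ D i ⊔ centralizer (ZT (S : Subgroup G) (Qv S) : Set G) := by
  have lv := lvQ_top B h.zc hmv b.sup
  have hL : Lq S (MZ (S : Subgroup G)) (Wd (S : Subgroup G)) N D l C q (Wd (S : Subgroup G))
      (normalizer (Wd (S : Subgroup G) : Set G)) (nxt (S : Subgroup G) (Qv S))
      (bo (S : Subgroup G) (Wd (S : Subgroup G))) := ⟨b, lv, BQ.exists_A b lv⟩
  have hzc : ZcQ (S : Subgroup G) (Wd (S : Subgroup G)) := fun x hx h2 hc => by
    rw [← h.zc]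
    exact mem_zc.2 ⟨hx, h2, fun y hy => (hc y hy).symm⟩
  obtain ⟨Lb, A, h1, h2, hD, h3, h4⟩ := exists_frL' hL hzc
  rw [BB_top B h, ZJ_top B h] at h3
  rw [ZJ_top B h] at hD
  have hN : normalizer (BT (S : Subgroup G) (Qv S) : Set G) ≤ normalizer (Wd (S : Subgroup G) : Set G) := fun g hg => by
    have k1 := OM.SwapT.norm_K h.wc hg
    have k2 := NO3S.Level.normalizer_le_zc _ k1
    rwa [h.zc] at k2
  have hC : ∀ i, C i = ⨆ j : {j : ι // j ≠ i}, N j := fun i =>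
    le_antisymm (b.Csup i) (iSup_le fun j => b.WjC i j (Ne.symm j.2))
  refine ⟨Lb, A, ⟨h3, h1, BFr.Noff.low B.data.toLow (fun P hP => hP) hsup, fun T hT hB f k1 k2 x hx y hy => ?_, ?_,
    fun i => ?_⟩, h2, hD⟩
  · have h5 := BFr.Noff.comm_T B.data.toLow (fun P hP => hP) hsup (OM.SwapT.wc h.wc) inf_le_left hN hT hB k1 k2 hx
    exact (mem_centralizer_iff.1 h5 _ ⟨y, hy, rfl⟩).symm
  · refine BFr.DataQ.perm_of b.lN (fun i e => ?_) (fun i j hij => ?_) hC fun s hs i => ?_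
    · obtain ⟨z, hz, hz1⟩ := b.exists_ne i
      rw [e, mem_bot] at hz
      exact hz1 hz
    · rw [eq_bot_iff, ← b.dir i]
      exact inf_le_inf_left _ (b.WjC i j hij)
    · obtain ⟨j, hj, -⟩ := b.permS s hs i
      exact ⟨j, hj⟩
  · obtain ⟨F, i1, i2, i3, hF, e, he⟩ := h4 i
    rw [BB_top B h] at he
    exact ⟨F, i1, i2, i3, hF, e, he⟩

end Cfsg.Agent.Omega.NOThreeL.RRed.QFr.Top
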