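import Cfsg.Agent.Omega.OM.SwapV.Q.KQ
import Cfsg.Agent.Omega.NOThreeL.RRed.QFr.Top

/-!
# NO-3L, box R, natural blocks, `q ≥ 4`, the top level `(Q, V*)`: the blocks over `B` which normalise `Q`

Over 461's `TopH` / `TopQ` and `KQ` (`OM/SwapV/Q/KQ.lean`), `Q = C_S(V*)`, `B = BK S Q`, `Z_J = ZK S Q`:

* `wl_of` : `Q` is a weakly closed level if `J(S) ≤ C(V*)`; `TopQ.frK`, `TopQ.nQ`;
* `TopQ.kq_le` : `KQ ≤ X` if all `C_G(l c : c ≠ b) ≤ X`; `TopQ.kq_le8` : `KQ ≤ X` if `C_G(Z_J), L i ≤ X`, `q ≥ 8`;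
* `mz_le` : `MZ S ≤ ⟨KQ, N_G(B)⟩` (helper448);
* `TopQ.blk` : a minimal parabolic `Y` over `T ≥ B` of stage `Q` which moves `Ω₁Z(T)` is generated by `T` and a block.
-/

set_option autoImplicit false
set_option linter.unusedSectionVars false

namespace Cfsg.Agent.Omega.NOThreeL.RRed.QFr.Top

open Subgroup Cfsg Cfsg.Agent.ZN.ChoiceBase Cfsg.Agent.Omega.MinPar
open Cfsg.Agent.ZN (zc zl o2 jj)
open Cfsg.Agent.ZN.ChoiceSit (Syl)
open Cfsg.Agent.MinSimple.MinParabolic (IsMinPar)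
open Cfsg.Agent.Omega.NO3S.Level (nxt Lev)
open Cfsg.Agent.Omega.OM.SwapT (ZT BT)
open Cfsg.Agent.Omega.OM.SwapK (WL BK ZK)
open Cfsg.Agent.Omega.OM.Lev.Uni (FrL)
open Cfsg.Agent.Omega.OM.UniPlus (NB)
open Cfsg.Agent.Omega.OM.SwapV.Q (Cor)
open Cfsg.Agent.Omega.OM.SwapV.Q.UniK (KQ FQ)
open Cfsg.Agent.Omega.NOThreeL.RTree
open Cfsg.Agent.Omega.NOThreeL.Merge (MZ)
open Cfsg.Agent.Omega.NOThreeL.RRed.BFr.StageQ (M_norm)

universe u

variable {G : Type u} [Group G] [Finite G] {S : Sylow 2 G}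

/-- `Q = C_S(V*)` is a weakly closed level. -/
theorem wl_of (h : TopH S) (hJ : jj (S : Subgroup G) ≤ centralizer (Wd (S : Subgroup G) : Set G)) : WL S (Qv S) where
  wc := h.wc
  lev :=
    { le := inf_le_left
      jjle := le_inf (jj_le _) hJ
      norm := fun _ h1 h2 _ hg =>
        mem_normalizer_iff_cj.2 (OM.LevD.norm_of_wc h.wc (S.isPGroup'.to_le h2) h1 hg) }

section frame

variable {ι : Type} [Finite ι] {L N l C A : ι → Subgroup G} {q : ℕ}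

omit [Finite ι] in
theorem TopQ.frK (t : TopQ S L N l C A q) (h : TopH S) :
    FrL (BK (S : Subgroup G) (Qv S)) (Qv S) (Wd (S : Subgroup G)) (zc (Qv S)) (ZK (S : Subgroup G) (Qv S))
      L N l C A q := by
  have h1 := t.fr
  rw [h.zc]
  exact h1

omit [Finite ι] in
theorem TopQ.coK (t : TopQ S L N l C A q) :
    ∀ i, ∃ (F : Type) (_ : Field F) (_ : Finite F) (_ : CharP F 2), Nat.card F = q ∧
      ∃ e : G → F × F, Cor F (S : Subgroup G) (BK (S : Subgroup G) (Qv S)) L N l i e := t.co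

omit [Finite ι] in
theorem TopQ.nQ (t : TopQ S L N l C A q) (i : ι) : L i ≤ normalizer (Qv S : Set G) := (t.LM i).trans M_norm

omit [Finite ι] in
theorem TopQ.L_le (t : TopQ S L N l C A q) (h : TopH S) (wl : WL S (Qv S)) (i : ι) :
    L i ≤ KQ (S : Subgroup G) (Qv S) := OM.SwapV.Q.UniK.L_le wl (t.frK h) t.nQ i

theorem TopQ.norm_KQ (t : TopQ S L N l C A q) (h : TopH S) (wl : WL S (Qv S)) :
    normalizer (BK (S : Subgroup G) (Qv S) : Set G) ≤ normalizer (KQ (S : Subgroup G) (Qv S) : Set G) :=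
  OM.SwapV.Q.UniK.norm_KQ wl (t.frK h) t.nQ

/-- **`KQ ≤ X`** if all `C_G(l c : c ≠ b) ≤ X`. -/
theorem TopQ.kq_le [Nonempty ι] (t : TopQ S L N l C A q) (h : TopH S) (wl : WL S (Qv S)) {X : Subgroup G}
    (hX : ∀ i, centralizer ((⨆ j : {j : ι // j ≠ i}, l j : Subgroup G) : Set G) ≤ X) :
    KQ (S : Subgroup G) (Qv S) ≤ X := by
  refine OM.SwapV.Q.UniK.KQ_le wl (t.frK h) fun i => le_trans (centralizer_le ?_) (hX i)
  exact_mod_cast (iSup_le fun j => le_inf (t.fr.Z_le j) ((t.fr.blk j).ZV.trans (t.fr.WjC i j (Ne.symm j.2))) :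
    (⨆ j : {j : ι // j ≠ i}, l j) ≤ ZK (S : Subgroup G) (Qv S) ⊓ C i)

/-- **`KQ ≤ X`** if `C_G(Z_J), L i ≤ X`, `q ≥ 8`. -/
theorem TopQ.kq_le8 (t : TopQ S L N l C A q) (h : TopH S) (wl : WL S (Qv S)) (hq : 8 ≤ q) {X : Subgroup G}
    (hD : centralizer (ZK (S : Subgroup G) (Qv S) : Set G) ≤ X) (hL : ∀ i, L i ≤ X) :
    KQ (S : Subgroup G) (Qv S) ≤ X := OM.SwapV.Q.UniK.KQ_le8 wl (t.frK h) t.coK hq hD hL

/-- the same from groups `D i` with `L i ≤ D i ⊔ C_G(Z_J)` -/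
theorem TopQ.kq_leD (t : TopQ S L N l C A q) (h : TopH S) (wl : WL S (Qv S)) (hq : 8 ≤ q) {X : Subgroup G}
    {D : ι → Subgroup G} (hLD : ∀ i, L i ≤ D i ⊔ centralizer (ZK (S : Subgroup G) (Qv S) : Set G))
    (hD : centralizer (ZK (S : Subgroup G) (Qv S) : Set G) ≤ X) (hX : ∀ i, D i ≤ X) :
    KQ (S : Subgroup G) (Qv S) ≤ X :=
  t.kq_le8 h wl hq hD fun i => (hLD i).trans (sup_le (hX i) hD)

/-- **A minimal parabolic of stage `Q` which moves `Ω₁Z(T)`.** -/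
theorem TopQ.blk (t : TopQ S L N l C A q) (h : TopH S) (wl : WL S (Qv S)) {T Y : Subgroup G}
    (hT : Syl T Y) (hB : BK (S : Subgroup G) (Qv S) ≤ T) (hP : IsMinPar T Y)
    (hc : Y ⊓ centralizer (o2 Y : Set G) ≤ o2 Y) (hK : Qv S ≤ o2 Y) (hn : ¬ nxt (S : Subgroup G) (Qv S) ≤ o2 Y)
    (hZ : ¬ Y ≤ centralizer (zc T : Set G)) :
    ∃ i, ∃ L' V' : Subgroup G, L' ≤ Y ∧ Y ≤ T ⊔ L' ∧ NB (BK (S : Subgroup G) (Qv S)) L' V' (l i) q ∧
      V' ≤ N i ⊔ ZK (S : Subgroup G) (Qv S) ∧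
      (∀ z ∈ ZK (S : Subgroup G) (Qv S), z ∈ C i ↔ ∀ x ∈ L', x * z = z * x) ∧
        (q = 2 → V' = N i ∧ L' ≤ L i ⊔ centralizer ((N i ⊔ ZK (S : Subgroup G) (Qv S) : Subgroup G) : Set G)) :=
  OM.SwapV.Q.UniK.exists_blkK wl (t.frK h) hT hB hP hc hK hn hZ

end frame

/-- **`MZ S ≤ ⟨KQ, N_G(B)⟩`** (helper448): every `P ∈ P*(S)` has `Q ≤ O₂(P)`. -/
theorem mz_le (B : RB S) (wl : WL S (Qv S)) : MZ (S : Subgroup G) ≤
    KQ (S : Subgroup G) (Qv S) ⊔ normalizer (BK (S : Subgroup G) (Qv S) : Set G) := by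
  refine sSup_le fun P hP => ?_
  have hP' : IsParS (S : Subgroup G) P := hP
  have hT : Syl (S : Subgroup G) P := ⟨hP'.le, S.isPGroup', fun Q _ h2 h3 => S.3 h2 h3⟩
  refine OM.SwapV.Q.UniK.par_le wl hT inf_le_left hP'.toIsMinPar (hP'.isLoc.char2 S B.ctx.char2) ?_
    fun hc => hP'.not_zc (hc.trans (centralizer_le_normalizer _))
  exact (inf_le_inf_left _ (centralizer_le (zl_le_Wd hP'))).trans (RLev.cs_le_o2 hP')

end Cfsg.Agent.Omega.NOThreeL.RRed.QFr.Top
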