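import Cfsg.Agent.Omega.NOThreeL.RRed.QFr.Top
import Cfsg.Agent.Omega.NOThreeL.RRed.QFr.OfNBs

/-!
# NO-3L, box R, natural blocks, `q ≥ 4` : the frame at `(Q, V*)` from `NBs` + `Src` (v5) of one class
-/

set_option autoImplicit false
set_option linter.unusedSectionVars false

namespace Cfsg.Agent.Omega.NOThreeL.RRed.QFr.Top

open Subgroup Cfsg Cfsg.Agent.ZN.ChoiceBase Cfsg.Agent.Omega.MinPar
open Cfsg.Agent.ZN (zc zl o2 jj)
open Cfsg.Agent.Omega.NO3S.OneLine (bo)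
open Cfsg.Agent.Omega.NOThreeL.RTree
open Cfsg.Agent.Omega.NOThreeL.Merge (MZ)
open Cfsg.Agent.Omega.NOThreeL.RRed.WideTree (NBs Src CM)

universe u

variable {G : Type u} [Group G] [Finite G] {S : Sylow 2 G} {ι : Type u} {N E D l : ι → Subgroup G} {q : ℕ}

/-- `Fin n ≃ ι` -/
theorem exists_equiv [Finite ι] : ∃ _ : Fin (Nat.card ι) ≃ ι, True := ⟨(Finite.equivFin ι).symm, trivial⟩

/-- **The frame at `(Q, V*)`.** -/
theorem topQ_of [Nonempty ι] (B : RB S) (h : NBs (S : Subgroup G) N E D l (fun _ => q))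
    (hs : Src (S : Subgroup G) N l (fun _ => q)) (hq : 4 ≤ q)
    (hc : CM (S : Subgroup G) (fun _ : PUnit.{u + 1} => Wd (S : Subgroup G))) (t : TopH S) {κ : Type} [Finite κ]
    (f : κ ≃ ι) : ∃ Lb A : κ → Subgroup G,
      TopQ S Lb (fun k => N (f k)) (fun k => l (f k)) (fun k => ⨆ j : {j // j ≠ k}, N (f j)) A q ∧
        ∀ i, A i ∈ bo (S : Subgroup G) (Wd (S : Subgroup G)) :=
  exists_top B (OfNBs.bq_of B h hs hq hc f) t (exists_off hs) (wd_sup h hs)

end Cfsg.Agent.Omega.NOThreeL.RRed.QFr.Top
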