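import Cfsg.Agent.Omega.NOThreeL.RRed.QFr.Zj
import Cfsg.Agent.Omega.OM.NX
import Cfsg.Agent.Omega.OM.SWQ.ModQ

/-!
# NO-3L, box R, natural blocks, `q ≥ 4` : the frame `FrL` over `B = C_S(Z_J)`

* `XX h e i` : the elements of `M` which act on `N i` as `SL₂(F)` and on every other block as an element of `B`;
* `nx` : `NX F B (XX h e i) (N i)`; `exists_L` : the block groups `L i`;
* **`exists_frL`** : the frame `FrL B Q V X Z_J L N l C A q`, with the coordinates `Cor`.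
-/

set_option autoImplicit false
set_option linter.unusedSectionVars false

namespace Cfsg.Agent.Omega.NOThreeL.RRed.QFr

open Subgroup Cfsg Cfsg.Agent.ZN Cfsg.Agent.ZN.ChoiceBase
open Cfsg.Agent.Lib.SL2Mat
open Cfsg.Agent.Omega.NatPair hiding cj
open Cfsg.Agent.Omega.SQ1.Bau (mem_sup_comm card_sup_comm elem_comm elem_sq mem_sup_norm)
open Cfsg.Agent.Omega.OM.Lev.Uni (Best FrL)
open Cfsg.Agent.Omega.OM.Uni (FB NX)
open Cfsg.Agent.Omega.FFThm (ElemM)
open Cfsg.Agent.Omega.NO3S.OneLine (BFam)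
open Cfsg.Agent.Omega.OM.FourF (Act)
open Cfsg.Agent.Omega.OM.SwapV.Q (CorA Cor cj_eq_of_comm)

universe u

variable {G : Type u} [Group G]

/-- the coordinates as a vector -/
def pv {F : Type} (e : G → F × F) (v : G) : Fin 2 → F := ![(e v).1, (e v).2]

section pv

variable {F : Type} [Field F] {e : G → F × F} {W : Subgroup G}

theorem pv_inj {v w : G} (h : pv e v = pv e w) : e v = e w :=
  Prod.ext (congrFun h 0) (congrFun h 1)

theorem act_pv {g : G} {a b c d : F} (hd : a * d - b * c = 1)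
    (h : Act W e g fun p => (a * p.1 + b * p.2, c * p.1 + d * p.2)) :
    ∀ v ∈ W, pv e (g * v * g⁻¹) = ap (Cfsg.Agent.Lib.SL2Mat.mk a b c d hd) (pv e v) := by
  intro v hv
  have h1 := h v hv
  apply ext2
  · rw [ap_zero', mk_00, mk_01]
    show (e (g * v * g⁻¹)).1 = a * (e v).1 + b * (e v).2
    rw [h1]
  · rw [ap_one', mk_10, mk_11]
    show (e (g * v * g⁻¹)).2 = c * (e v).1 + d * (e v).2
    rw [h1]

theorem pv_act {g : G} {A : Matrix.SpecialLinearGroup (Fin 2) F} (h : ∀ v ∈ W, pv e (g * v * g⁻¹) = ap A (pv e v)) :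
    Act W e g fun p => (ent A 0 0 * p.1 + ent A 0 1 * p.2, ent A 1 0 * p.1 + ent A 1 1 * p.2) := by
  intro v hv
  have h1 := h v hv
  have h2 := congrFun h1 0
  have h3 := congrFun h1 1
  rw [ap_zero'] at h2
  rw [ap_one'] at h3
  exact Prod.ext h2 h3

theorem up_pv {g : G} {m : F} (h : Act W e g fun p => (p.1 + m * p.2, p.2)) :
    ∀ v ∈ W, pv e (g * v * g⁻¹) = ap (up m) (pv e v) := by
  intro v hv
  have h1 := h v hv
  apply ext2
  · rw [ap_zero', up_00, up_01, one_mul]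
    show (e (g * v * g⁻¹)).1 = (e v).1 + m * (e v).2
    rw [h1]
  · rw [ap_one', up_10, up_11, zero_mul, one_mul, zero_add]
    show (e (g * v * g⁻¹)).2 = (e v).2
    rw [h1]

end pv

variable {ι : Type} {S : Sylow 2 G} {M V : Subgroup G} {N D l C : ι → Subgroup G} {q : ℕ} {X L J : Subgroup G}
  {AA : Set (Subgroup G)} (h : Lq S M V N D l C q X L J AA)

section xx

variable {F : Type} [Field F] (e : G → F × F) (i : ι)

/-- **The group over the block `i`.** -/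
def XX (_ : Lq S M V N D l C q X L J AA) : Subgroup G where
  carrier := {m | m ∈ M ∧ (∀ v ∈ N i, m * v * m⁻¹ ∈ N i ∧ m⁻¹ * v * m ∈ N i) ∧
    (∃ A : Matrix.SpecialLinearGroup (Fin 2) F, ∀ v ∈ N i, pv e (m * v * m⁻¹) = ap A (pv e v)) ∧
    ∀ j, j ≠ i → ∃ a ∈ BB (S : Subgroup G) V J, (∀ v ∈ N j, a * v * a⁻¹ ∈ N j ∧ a⁻¹ * v * a ∈ N j) ∧
      ∀ v ∈ N j, m * v * m⁻¹ = a * v * a⁻¹}
  one_mem' := by
    refine ⟨one_mem _, fun v hv => ⟨by simpa using hv, by simpa using hv⟩, ⟨1, fun v _ => ?_⟩, fun j _ =>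
      ⟨1, one_mem _, fun v hv => ⟨by simpa using hv, by simpa using hv⟩, fun v _ => rfl⟩⟩
    rw [ap_one, one_mul, inv_one, mul_one]
  mul_mem' := by
    rintro x y ⟨hx, hx1, ⟨A, hA⟩, hx3⟩ ⟨hy, hy1, ⟨A', hA'⟩, hy3⟩
    refine ⟨mul_mem hx hy, fun v hv => ⟨?_, ?_⟩, ⟨A * A', fun v hv => ?_⟩, fun j hj => ?_⟩
    · have e1 : x * y * v * (x * y)⁻¹ = x * (y * v * y⁻¹) * x⁻¹ := by group
      rw [e1]; exact (hx1 _ (hy1 v hv).1).1
    · have e1 : (x * y)⁻¹ * v * (x * y) = y⁻¹ * (x⁻¹ * v * x) * y := by group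
      rw [e1]; exact (hy1 _ (hx1 v hv).2).2
    · have e1 : x * y * v * (x * y)⁻¹ = x * (y * v * y⁻¹) * x⁻¹ := by group
      rw [e1, hA _ (hy1 v hv).1, hA' v hv, ap_mul]
    · obtain ⟨a, ha, ha1, ha2⟩ := hx3 j hj
      obtain ⟨b, hb, hb1, hb2⟩ := hy3 j hj
      refine ⟨a * b, mul_mem ha hb, fun v hv => ⟨?_, ?_⟩, fun v hv => ?_⟩
      · have e1 : a * b * v * (a * b)⁻¹ = a * (b * v * b⁻¹) * a⁻¹ := by group
        rw [e1]; exact (ha1 _ (hb1 v hv).1).1
      · have e1 : (a * b)⁻¹ * v * (a * b) = b⁻¹ * (a⁻¹ * v * a) * b := by group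
        rw [e1]; exact (hb1 _ (ha1 v hv).2).2
      · have e1 : x * y * v * (x * y)⁻¹ = x * (y * v * y⁻¹) * x⁻¹ := by group
        have e2 : a * b * v * (a * b)⁻¹ = a * (b * v * b⁻¹) * a⁻¹ := by group
        rw [e1, e2, hb2 v hv, ha2 _ (hb1 v hv).1]
  inv_mem' := by
    rintro x ⟨hx, hx1, ⟨A, hA⟩, hx3⟩
    refine ⟨inv_mem hx, fun v hv => ⟨by simpa using (hx1 v hv).2, by simpa using (hx1 v hv).1⟩,
      ⟨A⁻¹, fun v hv => ?_⟩, fun j hj => ?_⟩
    · have h1 := hA _ (hx1 v hv).2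
      have e1 : x * (x⁻¹ * v * x) * x⁻¹ = v := by group
      rw [e1] at h1
      rw [h1, ap_inv_ap, inv_inv]
    · obtain ⟨a, ha, ha1, ha2⟩ := hx3 j hj
      refine ⟨a⁻¹, inv_mem ha, fun v hv => ⟨by simpa using (ha1 v hv).2, by simpa using (ha1 v hv).1⟩, fun v hv => ?_⟩
      have h1 := ha2 _ (ha1 v hv).2
      have e1 : a * (a⁻¹ * v * a) * a⁻¹ = v := by group
      rw [e1] at h1
      have h2 : x⁻¹ * v * x = a⁻¹ * v * a := by
        calc x⁻¹ * v * x = x⁻¹ * (x * (a⁻¹ * v * a) * x⁻¹) * x := by rw [h1]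
          _ = a⁻¹ * v * a := by group
      rw [inv_inv, inv_inv]
      exact h2

theorem XX_le_M : XX e i h ≤ M := fun _ hm => hm.1

variable [Finite G]

theorem XX_norm {m : G} (hm : m ∈ XX e i h) (j : ι) : ∀ v ∈ N j, m * v * m⁻¹ ∈ N j := by
  intro v hv
  by_cases hj : j = i
  · subst hj; exact (hm.2.1 v hv).1
  · obtain ⟨a, -, ha1, ha2⟩ := hm.2.2.2 j hj
    rw [ha2 v hv]; exact (ha1 v hv).1

theorem XX_l {m : G} (hm : m ∈ XX e i h) {j : ι} (hj : j ≠ i) : ∀ z ∈ l j, m * z = z * m := by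
  intro z hz
  obtain ⟨a, ha, -, ha2⟩ := hm.2.2.2 j hj
  have h1 := ha2 z (h.b.lN j hz)
  have h2 : a * z = z * a := (Lq.mem_BB.1 ha).2 z (h.l_ZJ j hz)
  rw [h2, mul_inv_cancel_right] at h1
  exact mul_inv_eq_iff_eq_mul.1 h1

theorem B_le_XX (c : CorA F (S : Subgroup G) (N i) (l i) e) : BB (S : Subgroup G) V J ≤ XX e i h := by
  intro x hx
  have key : ∀ j, ∀ v ∈ N j, x * v * x⁻¹ ∈ N j ∧ x⁻¹ * v * x ∈ N j := fun j v hv =>
    ⟨h.B_mem hx j hv, by simpa using h.B_mem (inv_mem hx) j hv⟩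
  obtain ⟨m, hm⟩ := h.B_act c hx
  exact ⟨h.B_le_M hx, key i, ⟨up m, up_pv hm⟩, fun j _ => ⟨x, hx, key j, fun v _ => rfl⟩⟩

theorem D_le_XX (s : SLA F (D i) (N i) e) : D i ≤ XX e i h := by
  intro d hd
  refine ⟨h.b.DM i hd, fun v hv => ⟨s.nD d hd v hv, by simpa using s.nD d⁻¹ (inv_mem hd) v hv⟩, ?_, fun j hj => ?_⟩
  · obtain ⟨a, b, c, d', h1, h2⟩ := s.act d hd
    exact ⟨_, act_pv h1 h2⟩
  · refine ⟨1, one_mem _, fun v hv => ⟨by simpa using hv, by simpa using hv⟩, fun v hv => ?_⟩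
    rw [h.b.DC i d hd v (h.b.WjC i j (Ne.symm hj) hv)]
    group

/-- `XX i` centralises `Z_J ∩ C i` -/
theorem XX_cent {m : G} (hm : m ∈ XX e i h) {z : G} (hz : z ∈ ZJ V J) (hzC : z ∈ C i) : m * z = z * m := by
  refine Lq.cent_of h.b hm.1 (Lq.mem_ZJ.1 hz).1 fun j => ?_
  by_cases hj : j = i
  · subst hj
    refine ⟨1, one_mem _, z, hzC, (one_mul z).symm, by rw [mul_one, one_mul], ?_⟩
    rw [← (Lq.nC h.b hm.1 (XX_norm h e j hm j)).2]
    exact ⟨z, hzC, rfl⟩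
  · obtain ⟨w, hw, c, hc, -, e1⟩ := h.split_ZJ j hz
    refine ⟨w, h.b.lN j hw, c, hc, e1, XX_l h e i hm hj w hw, ?_⟩
    rw [← (Lq.nC h.b hm.1 (XX_norm h e i hm j)).2]
    exact ⟨c, hc, rfl⟩

theorem zj_act {m z : G} (hm : m ∈ XX e i h) (hz : z ∈ ZJ V J) : m * z * m⁻¹ * z⁻¹ ∈ N i := by
  obtain ⟨w, hw, c, hc, hcZ, rfl⟩ := h.split_ZJ i hz
  have h1 := XX_cent h e i hm hcZ hc
  have h2 := XX_norm h e i hm i w (h.b.lN i hw)
  have h3 : m * (w * c) * m⁻¹ * (w * c)⁻¹ = m * w * m⁻¹ * w⁻¹ := by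
    calc m * (w * c) * m⁻¹ * (w * c)⁻¹ = m * w * (c * m⁻¹) * c⁻¹ * w⁻¹ := by group
      _ = m * w * (m⁻¹ * c) * c⁻¹ * w⁻¹ := by
        have h4 : c * m⁻¹ = m⁻¹ * c := ((show Commute m c from h1).inv_left.eq).symm
        rw [h4]
      _ = _ := by group
  rw [h3]
  exact mul_mem h2 (inv_mem (h.b.lN i hw))

/-- `B` is a Sylow 2-subgroup of `XX i` -/
theorem syl_XX [Finite F] [CharP F 2] (hF : Nat.card F = q) (c : CorA F (S : Subgroup G) (N i) (l i) e)
    {T : Subgroup G} (hBT : BB (S : Subgroup G) V J ≤ T) (hTX : T ≤ XX e i h) (hT : IsPGroup 2 T) :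
    T = BB (S : Subgroup G) V J := by
  have : Fact (Nat.Prime 2) := ⟨Nat.prime_two⟩
  -- a common fixed vector
  have hN2 : IsPGroup 2 (N i) := S.isPGroup'.to_le ((h.b.NV i).trans h.b.VS)
  have hTn : T ≤ normalizer (N i : Set G) := fun t ht =>
    mem_normalizer_iff_cj.2 (Lq.nC h.b (hTX ht).1 (XX_norm h e i (hTX ht) i)).1
  have hne : N i ≠ ⊥ := by
    intro h0
    have h1 := h.b.card_N i
    rw [h0, card_bot] at h1
    have := h.b.q4
    nlinarith
  have h1 := PLocal.OffenderStep.inf_centralizer_ne_bot (N i) T hN2 hT hTn hne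
  obtain ⟨z, hz1⟩ := Subgroup.ne_bot_iff_exists_ne_one.1 h1
  have hzN : (z : G) ∈ N i := z.2.1
  have hzT : ∀ t ∈ T, t * (z : G) = z * t := fun t ht => mem_centralizer_iff.1 z.2.2 t ht
  obtain ⟨A, hA, -, hfull⟩ := h.A_full hF c
  obtain ⟨a, ha, hm⟩ := hfull 1
  have hzl : (z : G) ∈ l i := c.mem_of_fix one_ne_zero hm hzN (hzT a (hBT (h.J_le_B (h.lv.AJ A hA ha))))
  have hz2 : (e z).2 = 0 := ((c.memZ _).1 hzl).2
  have hz0 : (e z).1 ≠ 0 := by
    intro h0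
    apply hz1
    refine Subtype.ext (c.inj _ hzN 1 (one_mem _) ?_)
    have h2 := c.mul 1 (one_mem _) 1 (one_mem _)
    rw [mul_one] at h2
    rw [left_eq_add.1 h2]
    exact Prod.ext h0 hz2
  -- the elements of `T` centralise `l i`
  have hTl : ∀ t ∈ T, ∀ v ∈ l i, t * v = v * t := by
    intro t ht v hv
    obtain ⟨A', hA'⟩ := (hTX ht).2.2.1
    have h2 := pv_act hA'
    have h3 := h2 z hzN
    have h4 : t * (z : G) * t⁻¹ = z := by rw [hzT t ht]; group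
    rw [h4] at h3
    have h5 := congrArg Prod.fst h3
    have h6 := congrArg Prod.snd h3
    simp only [hz2, mul_zero, add_zero] at h5 h6
    have h7 : ent A' 0 0 = 1 := by
      have h8 : ent A' 0 0 * (e z).1 = 1 * (e z).1 := by rw [one_mul]; exact h5.symm
      exact mul_right_cancel₀ hz0 h8
    have h8 : ent A' 1 0 = 0 := (mul_eq_zero.1 h6.symm).resolve_right hz0
    obtain ⟨hv1, hv2⟩ := (c.memZ v).1 hv
    have h9 := h2 v hv1
    refine mul_inv_eq_iff_eq_mul.1 (c.inj _ (XX_norm h e i (hTX ht) i v hv1) v hv1 ?_)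
    rw [h9]
    ext
    · simp [h7, hv2]
    · simp [h8, hv2]
  refine h.syl_B hT hBT fun t ht z hz => ?_
  refine h.cent_ZJ (hTX ht).1 (fun j => XX_norm h e i (hTX ht) j) (fun j => ?_) hz
  by_cases hj : j = i
  · subst hj; exact hTl t ht
  · exact XX_l h e i (hTX ht) hj

/-- `Ω₁Z(Q) ≤ V` for `Q = C_S(V)` -/
def ZcQ (S V : Subgroup G) : Prop := ∀ x ∈ S ⊓ centralizer (V : Set G), x ^ 2 = 1 →
  (∀ y ∈ S ⊓ centralizer (V : Set G), x * y = y * x) → x ∈ V

include h in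
/-- `Ω₁Z(B) = Z_J` -/
theorem zc_B (hz : ZcQ (S : Subgroup G) V) : zc (BB (S : Subgroup G) V J) = ZJ V J := by
  ext z
  rw [ChoiceBase.mem_zc]
  constructor
  · rintro ⟨h1, h2, h3⟩
    have h4 : z ∈ (S : Subgroup G) ⊓ centralizer (V : Set G) :=
      ⟨(Lq.mem_BB.1 h1).1, mem_centralizer_iff.2 fun v hv => h3 v (h.V_le_B hv)⟩
    have h5 : z ∈ V := hz z h4 h2 fun y hy => (h3 y (h.Q_le_B hy)).symm
    exact Lq.mem_ZJ.2 ⟨h5, fun y hy => h3 y (h.J_le_B hy)⟩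
  · intro h1
    have h2 := (Lq.mem_ZJ.1 h1).1
    exact ⟨h.V_le_B h2, elem_sq h.b.el z h2, fun y hy => (Lq.mem_BB.1 hy).2 z h1⟩

/-- **`NX`** -/
def nx [Finite F] [CharP F 2] (hF : Nat.card F = q) (c : CorA F (S : Subgroup G) (N i) (l i) e)
    (s : SLA F (D i) (N i) e) (hz : ZcQ (S : Subgroup G) V) : NX F (BB (S : Subgroup G) V J) (XX e i h) (N i) where
  π := pv e
  mul := fun v hv w hw => by
    funext k
    fin_cases k
    · show (e (v * w)).1 = (e v).1 + (e w).1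
      rw [c.mul v hv w hw]; rfl
    · show (e (v * w)).2 = (e v).2 + (e w).2
      rw [c.mul v hv w hw]; rfl
  inj := fun v hv h0 => by
    refine c.inj v hv 1 (one_mem _) ?_
    have h2 := c.mul 1 (one_mem _) 1 (one_mem _)
    rw [mul_one] at h2
    rw [left_eq_add.1 h2]
    exact Prod.ext (congrFun h0 0) (congrFun h0 1)
  surj := fun x => by
    obtain ⟨v, hv, hve⟩ := c.surj (x 0, x 1)
    refine ⟨v, hv, ext2 ?_ ?_⟩
    · show (e v).1 = x 0
      rw [hve]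
    · show (e v).2 = x 1
      rw [hve]
  el := ⟨⟨⟨fun x y => Subtype.ext (h.b.Vc (h.b.NV i x.2) (h.b.NV i y.2))⟩⟩, fun x hx => elem_sq h.b.el x (h.b.NV i hx)⟩
  WB := (h.b.NV i).trans h.V_le_B
  B2 := S.isPGroup'.to_le fun _ hx => (Lq.mem_BB.1 hx).1
  BX := B_le_XX h e i c
  nW := fun m hm v hv => XX_norm h e i hm i v hv
  acts := fun m hm => hm.2.2.1
  cov := fun A => by
    obtain ⟨g, hg, hga⟩ := s.lift (ent A 0 0) (ent A 0 1) (ent A 1 0) (ent A 1 1) (det_eq A)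
    refine ⟨g, D_le_XX h e i s hg, fun v hv => ?_⟩
    have h1 := hga v hv
    apply ext2
    · rw [ap_zero']
      show (e (g * v * g⁻¹)).1 = ent A 0 0 * (e v).1 + ent A 0 1 * (e v).2
      rw [h1]
    · rw [ap_one']
      show (e (g * v * g⁻¹)).2 = ent A 1 0 * (e v).1 + ent A 1 1 * (e v).2
      rw [h1]
  up := fun x hx => by
    obtain ⟨m, hm⟩ := h.B_act c hx
    exact ⟨m, up_pv hm⟩
  upc := fun m => by
    obtain ⟨A, hA, -, hfull⟩ := h.A_full hF c
    obtain ⟨a, ha, hm⟩ := hfull m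
    exact ⟨a, h.J_le_B (h.lv.AJ A hA ha), up_pv hm⟩
  syl := fun T h1 h2 h3 => syl_XX h e i hF c h1 h2 h3
  act := fun m hm z hz' => zj_act h e i hm (by rw [zc_B h hz] at hz'; exact hz')

theorem nx_Zs [Finite F] [CharP F 2] (hF : Nat.card F = q) (c : CorA F (S : Subgroup G) (N i) (l i) e)
    (s : SLA F (D i) (N i) e) (hz : ZcQ (S : Subgroup G) V) : (nx h e i hF c s hz).Zs = l i := by
  ext v
  rw [NX.mem_Zs, c.memZ]
  rfl

end xx

variable [Finite G] [Finite ι]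
include h

/-- the block groups -/
theorem exists_L (hz : ZcQ (S : Subgroup G) V) (i : ι) : ∃ Lb : Subgroup G, Lb ≤ M ∧
    FB (BB (S : Subgroup G) V J) Lb (N i) (l i) q ∧ (∀ m ∈ Lb, ∀ z ∈ ZJ V J, z ∈ C i → m * z = z * m) ∧
    ∃ (F : Type) (_ : Field F) (_ : Finite F) (_ : CharP F 2) (e : G → F × F), Nat.card F = q ∧
      CorA F (S : Subgroup G) (N i) (l i) e ∧ ∀ a b c d : F, a * d - b * c = 1 → ∃ g ∈ Lb,
        g ∈ normalizer (N i : Set G) ∧ Act (N i) e g (fun p => (a * p.1 + b * p.2, c * p.1 + d * p.2)) ∧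
          ∀ j, j ≠ i → ∀ w ∈ N j, g * w = w * g := by
  classical
  have := Fintype.ofFinite ι
  obtain ⟨F, i1, i2, i3, e, hF, c, s⟩ := h.b.nat i
  obtain ⟨Lb, hB, hX, hFB, hcov, -⟩ := (nx h e i hF c s hz).exists_block
  rw [hF, nx_Zs] at hFB
  refine ⟨Lb, hX.trans (XX_le_M h e i), hFB, fun m hm z hz1 hz2 => XX_cent h e i (hX hm) hz1 hz2, F, i1, i2, i3, e, hF, c,
    fun a b c' d hd => ?_⟩
  obtain ⟨g₀, hg₀, hga⟩ := hcov (Cfsg.Agent.Lib.SL2Mat.mk a b c' d hd)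
  -- correct the action on the other blocks
  have key : ∀ t : Finset ι, i ∉ t → ∃ g ∈ Lb, (∀ v ∈ N i, pv e (g * v * g⁻¹) =
      ap (Cfsg.Agent.Lib.SL2Mat.mk a b c' d hd) (pv e v)) ∧ ∀ j ∈ t, ∀ w ∈ N j, g * w = w * g := by
    intro t
    induction t using Finset.induction_on with
    | empty => exact fun _ => ⟨g₀, hg₀, hga, fun j hj => absurd hj (Finset.notMem_empty j)⟩
    | insert j t hj ih =>
      intro hi
      obtain ⟨g, hg, h1, h2⟩ := ih fun h3 => hi (Finset.mem_insert_of_mem h3)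
      have hji : j ≠ i := fun e1 => hi (e1 ▸ Finset.mem_insert_self j t)
      obtain ⟨x, hx, -, hx2⟩ := (hX hg).2.2.2 j hji
      obtain ⟨F', _, _, _, e', hF', c2, -⟩ := h.b.nat j
      obtain ⟨m, hm⟩ := h.B_act c2 hx
      obtain ⟨A, hA, hA1, hfull⟩ := h.A_full hF' c2
      obtain ⟨y, hy, hym⟩ := hfull m
      have hyB : y ∈ BB (S : Subgroup G) V J := h.J_le_B (h.lv.AJ A hA hy)
      have hxy : ∀ w ∈ N j, g * w * g⁻¹ = y * w * y⁻¹ := by
        intro w hw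
        rw [hx2 w hw]
        refine c2.inj _ (h.B_mem hx j hw) _ (h.B_mem hyB j hw) ?_
        rw [hm w hw, hym w hw]
      refine ⟨y⁻¹ * g, mul_mem (inv_mem (hB hyB)) hg, fun v hv => ?_, fun k hk w hw => ?_⟩
      · have h3 : y⁻¹ * g * v * (y⁻¹ * g)⁻¹ = g * v * g⁻¹ := by
          have h4 := XX_norm h e i (hX hg) i v hv
          have h5 := mem_centralizer_iff.1 (hA1 i (Ne.symm hji) hy) _ h4
          calc y⁻¹ * g * v * (y⁻¹ * g)⁻¹ = y⁻¹ * ((g * v * g⁻¹) * y) := by group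
            _ = y⁻¹ * (y * (g * v * g⁻¹)) := by rw [h5]
            _ = g * v * g⁻¹ := by group
        rw [h3]
        exact h1 v hv
      · rcases Finset.mem_insert.1 hk with rfl | hk'
        · have h3 := hxy w hw
          have h4 : g * w = y * w * y⁻¹ * g := by rw [← h3]; group
          calc y⁻¹ * g * w = y⁻¹ * (g * w) := by group
            _ = y⁻¹ * (y * w * y⁻¹ * g) := by rw [h4]
            _ = w * (y⁻¹ * g) := by group
        · by_cases hkj : k = j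
          · subst hkj
            have h3 := hxy w hw
            have h4 : g * w = y * w * y⁻¹ * g := by rw [← h3]; group
            calc y⁻¹ * g * w = y⁻¹ * (g * w) := by group
              _ = y⁻¹ * (y * w * y⁻¹ * g) := by rw [h4]
              _ = w * (y⁻¹ * g) := by group
          · have h3 : Commute g w := h2 k hk' w hw
            have h4 : Commute y w := (mem_centralizer_iff.1 (hA1 k hkj hy) w hw).symm
            exact (h4.inv_left.mul_left h3).eq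
  obtain ⟨g, hg, h1, h2⟩ := key (Finset.univ.erase i) (Finset.notMem_erase i _)
  refine ⟨g, hg, ?_, ?_, fun j hj => h2 j (Finset.mem_erase.2 ⟨hj, Finset.mem_univ j⟩)⟩
  · exact mem_normalizer_iff_cj.2 (Lq.nC h.b (hX hg).1 (XX_norm h e i (hX hg) i)).1
  · have h3 := pv_act h1
    simpa [mk_00, mk_01, mk_10, mk_11] using h3

/-- **THE FRAME OVER `B`.** -/
theorem exists_frL (hz : ZcQ (S : Subgroup G) V) : ∃ Lb A : ι → Subgroup G, (∀ i, Lb i ≤ M) ∧ (∀ i, A i ∈ AA) ∧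
    FrL (BB (S : Subgroup G) V J) ((S : Subgroup G) ⊓ centralizer (V : Set G)) V X (ZJ V J) Lb N l C A q ∧
    ∀ i, ∃ (F : Type) (_ : Field F) (_ : Finite F) (_ : CharP F 2), Nat.card F = q ∧
      ∃ e : G → F × F, Cor F (S : Subgroup G) (BB (S : Subgroup G) V J) Lb N l i e := by
  choose Lb hLM hFB hLC hco using exists_L h hz
  choose A hA h1 h2 h3 h4 h5 using h.exists_A
  have hfr : FrL (BB (S : Subgroup G) V J) ((S : Subgroup G) ⊓ centralizer (V : Set G)) V X (ZJ V J) Lb N l C A q :=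
    { blk := hFB
      cardZ := h.b.card_l
      QB := h.Q_le_B
      VQ := fun v hv => ⟨h.b.VS hv, mem_centralizer_iff.2 fun u hu => h.b.Vc hu hv⟩
      elX := h.lv.elX
      VX := h.lv.VX
      mem_Q := fun x hx => ⟨fun hq v hv => (mem_centralizer_iff.1 hq.2 v hv).symm, fun hc =>
        ⟨(Lq.mem_BB.1 hx).1, mem_centralizer_iff.2 fun v hv => (hc v hv).symm⟩⟩
      zcQ := hz
      mem_ZJ := fun v => ⟨fun hv => ⟨(Lq.mem_ZJ.1 hv).1, fun x hx => (Lq.mem_BB.1 hx).2 v hv⟩, fun hv =>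
        Lq.mem_ZJ.2 ⟨hv.1, fun y hy => hv.2 y (h.J_le_B hy)⟩⟩
      LV := fun i m hm v hv => h.b.MV m (hLM i hm) v hv
      LQ := fun i m hm x hx => by
        have hmM := hLM i hm
        refine ⟨h.b.MQ m hmM x hx, mem_centralizer_iff.2 fun v hv => ?_⟩
        have h6 := mem_centralizer_iff.1 hx.2 (m⁻¹ * v * m) (by simpa using h.b.MV m⁻¹ (inv_mem hmM) v hv)
        calc v * (m * x * m⁻¹) = m * ((m⁻¹ * v * m) * x) * m⁻¹ := by group
          _ = m * x * m⁻¹ * v := by rw [h6]; group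
      LX := fun i m hm x hx => h.lv.MX m (hLM i hm) x hx
      WV := h.b.NV
      CV := h.b.CV
      WC := h.b.WC
      dir := h.b.dir
      C0 := h.b.C0
      WjC := h.b.WjC
      BC := fun i x hx c hc => h.B_memC hx i hc
      LC := fun i m hm z hz1 hz2 => hLC i m hm z hz1 hz2
      AB := fun i a ha => h.J_le_B (h.lv.AJ _ (hA i) ha)
      AX := fun i => h.lv.fam.elem _ (hA i)
      best := fun i => h.lv.fam.best _ (hA i)
      Ane := fun i hcon => by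
        obtain ⟨F, _, _, _, e, hF, c, -⟩ := h.b.nat i
        obtain ⟨a, ha, hm⟩ := c.full_of (h.AS (hA i)) (h4 i) (h3 i) (by rw [hF]; exact h5 i) 1
        obtain ⟨v, hv, hve⟩ := c.surj (0, 1)
        have h6 := c.mem_of_fix one_ne_zero hm hv (hcon a ha v hv)
        have h7 := ((c.memZ v).1 h6).2
        rw [hve] at h7
        exact one_ne_zero h7
      AC := fun i a ha c hc => h2 i a ha c hc }
  refine ⟨Lb, A, hLM, hA, hfr, fun i => ?_⟩
  obtain ⟨F, i1, i2, i3, e, hF, c, hsl⟩ := hco i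
  refine ⟨F, i1, i2, i3, hF, e, c.cor (fun x hx => (Lq.mem_BB.1 hx).1) (hfr.AB i)
    (fun x hx z hz1 => (Lq.mem_BB.1 hx).2 z (h.l_ZJ i hz1)) (fun v hv hv1 z hz1 => ?_) hsl⟩
  exact OM.SWQ.ModQ.root hfr hv hv1 hz1

end Cfsg.Agent.Omega.NOThreeL.RRed.QFr
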