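import Cfsg.Agent.Omega.NOThreeL.RRed.QFr.Asm
import Cfsg.Agent.Omega.NOThreeL.RRed.QFr.TopOf
import Cfsg.Agent.Omega.NOThreeL.RRed.BQ.Cut
import Cfsg.Agent.Omega.NOThreeL.RRed.BFr.NlEndQ

/-!
# NO-3L, box R, natural blocks, `q ≥ 4`, one class : `NLY` at the standard levels

`NLY` : no 2-group `≠ 1` is normalised by all `C_G(∏_{c ≠ b} l c)`.

* `exists_neg`, `exists_lev` : the ground frames from `Bq` (no further input);
* `nlY_bq` : over `Bq`; **`nlY`** : over `NBs` + `Src` of one class, if `J(S)` moves `V*` or `Stg S n` for some `n`.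
-/

set_option autoImplicit false
set_option linter.unusedSectionVars false

namespace Cfsg.Agent.Omega.NOThreeL.RRed.QFr.NonY

open Subgroup Cfsg Cfsg.Agent.Omega.MinPar Cfsg.Agent.Omega.Frame Cfsg.Agent.ZN.ChoiceBase
open Cfsg.Agent.ZN (jj zj bau zc zl o2)
open Cfsg.Agent.Omega.NO3S.OneLine (bo)
open Cfsg.Agent.Omega.NO3S.Level (lev)
open Cfsg.Agent.Omega.OM.SwapL (BL ZL)
open Cfsg.Agent.Omega.OM.SwapV.Q
open Cfsg.Agent.Omega.NOThreeL.RTree
open Cfsg.Agent.Omega.NOThreeL.Merge (MZ)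
open Cfsg.Agent.Omega.NOThreeL.RRed.BFr.StageQ (Stg lvQ_neg le_zjQ)
open Cfsg.Agent.Omega.NOThreeL.RRed.WideTree (NBs Src CM)

universe u

variable {G : Type u} [Group G] [Finite G] {S : Sylow 2 G}

section bq

variable {κ : Type} [Finite κ] {N D l C : κ → Subgroup G} {q : ℕ}

/-- **The ground frame at stage `-1`.** -/
theorem exists_neg (B : RB S) (b : Bq S (MZ (S : Subgroup G)) (Wd (S : Subgroup G)) N D l C q)
    (hP : ∀ i, ∃ P, IsParS (S : Subgroup G) P ∧ N i ≤ zl (S : Subgroup G) P)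
    (hj : ¬ jj (S : Subgroup G) ≤ centralizer (Wd (S : Subgroup G) : Set G)) :
    ∃ Lb A : κ → Subgroup G, (∀ i, Lb i ≤ MZ (S : Subgroup G)) ∧ (∀ i, A i ∈ AA (S : Subgroup G)) ∧
      NegQ S (Wd (S : Subgroup G)) ((S : Subgroup G) ⊓ centralizer (Wd (S : Subgroup G) : Set G)) Lb N l C A q := by
  exact negQ_of B b hP hj

/-- **The ground frame at stage `n`.** -/
theorem exists_lev (B : RB S) (b : Bq S (MZ (S : Subgroup G)) (Wd (S : Subgroup G)) N D l C q)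
    (hP : ∀ i, ∃ P, IsParS (S : Subgroup G) P ∧ N i ≤ zl (S : Subgroup G) P) {n : ℕ} (h : Stg S n) :
    ∃ Lb A : κ → Subgroup G, (∀ i, Lb i ≤ MZ (S : Subgroup G)) ∧
      (∀ i, A i ∈ bo (S : Subgroup G) (zc (lev (S : Subgroup G) n))) ∧
      LnQ S (Wd (S : Subgroup G)) ((S : Subgroup G) ⊓ centralizer (Wd (S : Subgroup G) : Set G)) n Lb N l C A q := by
  exact lnQ_of B b hP h

/-- **`NLY` over `Bq`.** -/
theorem nlY_bq [Nonempty κ] (B : RB S) (b : Bq S (MZ (S : Subgroup G)) (Wd (S : Subgroup G)) N D l C q)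
    (hP : ∀ i, ∃ P, IsParS (S : Subgroup G) P ∧ N i ≤ zl (S : Subgroup G) P)
    (h2 : ∀ i : κ, ∃ j, j ≠ i)
    (hl : ¬ jj (S : Subgroup G) ≤ centralizer (Wd (S : Subgroup G) : Set G) ∨ ∃ n, Stg S n)
    {U : Subgroup G} (hU : IsPGroup 2 U)
    (hY : ∀ i, centralizer ((⨆ c : {c // c ≠ i}, l c.1 : Subgroup G) : Set G) ≤ normalizer (U : Set G)) : U = ⊥ := by
  rcases hl with hj | ⟨n, hn⟩
  · obtain ⟨Lb, A, -, -, h⟩ := exists_neg B b hP hj
    refine BFr.NlEndQ.nl_neg B h b.q4 h2 hU fun i => (centralizer_le ?_).trans (hY i)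
    have h1 : (⨆ c : {c // c ≠ i}, l c) ≤ zj (S : Subgroup G) ⊓ C i :=
      iSup_le fun c => le_inf (h.fr.Z_le c) ((b.lN c).trans (b.WjC i c (Ne.symm c.2)))
    exact_mod_cast h1
  · obtain ⟨Lb, A, -, -, h⟩ := exists_lev B b hP hn
    refine BFr.NlEndQ.nl_lev B h b.q4 hU fun i => (centralizer_le ?_).trans (hY i)
    have h1 : (⨆ c : {c // c ≠ i}, l c) ≤ ZL (S : Subgroup G) n ⊓ C i :=
      iSup_le fun c => le_inf (h.fr.Z_le c) ((b.lN c).trans (b.WjC i c (Ne.symm c.2)))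
    exact_mod_cast h1

end bq

section nbs

variable {ι : Type u} {N E D l : ι → Subgroup G} {q : ℕ}

/-- every block lies in some `V_P` -/
theorem par_of {q : ι → ℕ} (hs : Src (S : Subgroup G) N l q) (b : ι) :
    ∃ P, IsParS (S : Subgroup G) P ∧ N b ≤ zl (S : Subgroup G) P := by
  obtain ⟨P, hP, F, _, _, _, k, -, M, hb, -, ⟨j, e, -, -⟩, -⟩ := hs.mov b
  exact ⟨P, hP.1, by rw [e]; exact NO3S.KeyRad.blk_le hb j⟩

/-- **`NLY` at the standard levels.** -/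
theorem nlY [Finite ι] (B : RB S) (h : NBs (S : Subgroup G) N E D l (fun _ => q))
    (hs : Src (S : Subgroup G) N l (fun _ => q)) (hq : 4 ≤ q)
    (hc : CM (S : Subgroup G) (fun _ : PUnit.{u + 1} => Wd (S : Subgroup G))) (h2 : 2 ≤ Nat.card ι)
    (hl : ¬ jj (S : Subgroup G) ≤ centralizer (Wd (S : Subgroup G) : Set G) ∨ ∃ n, Stg S n)
    {U : Subgroup G} (hU : IsPGroup 2 U)
    (hY : ∀ b, centralizer ((⨆ c : {c // c ≠ b}, l c.1 : Subgroup G) : Set G) ≤ normalizer (U : Set G)) : U = ⊥ := by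
  obtain ⟨f, -⟩ := Top.exists_equiv (ι := ι)
  have hne : Nonempty (Fin (Nat.card ι)) := ⟨⟨0, by omega⟩⟩
  refine nlY_bq B (OfNBs.bq_of B h hs hq hc f) (fun i => par_of hs (f i)) (fun i => ?_) hl hU fun i =>
    (centralizer_le ?_).trans (hY (f i))
  · by_contra hcon
    push Not at hcon
    have : Subsingleton (Fin (Nat.card ι)) := ⟨fun a b => (hcon a).trans (hcon b).symm⟩
    have h3 := Finite.card_le_one_iff_subsingleton.2 this
    rw [Nat.card_eq_fintype_card, Fintype.card_fin] at h3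
    omega
  · have h1 : (⨆ c : {c // c ≠ i}, l (f c)) ≤ ⨆ c : {c // c ≠ f i}, l c :=
      iSup_le fun c => le_iSup (fun c : {c // c ≠ f i} => l c) ⟨f c, fun e => c.2 (f.injective e)⟩
    have h2 : (⨆ c : {c // c ≠ f i}, l c) ≤ ⨆ c : {c // c ≠ i}, l (f c) := iSup_le fun c => by
      have h4 : l (c : ι) = l (f (f.symm c)) := by rw [f.apply_symm_apply]
      rw [h4]
      exact le_iSup (fun c : {c // c ≠ i} => l (f c)) ⟨f.symm c, fun e => c.2 ((f.symm_apply_eq).1 e)⟩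
    first | exact_mod_cast h2 | exact_mod_cast h1

end nbs

end Cfsg.Agent.Omega.NOThreeL.RRed.QFr.NonY
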