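import Cfsg.Agent.Omega.NOThreeL.RRed.QFr.Inst
import Cfsg.Agent.Omega.NOThreeL.RRed.BQ.Mem
import Cfsg.Agent.Omega.NOThreeL.RRed.BQ.Cut

/-!
# NO-3L, box R, natural blocks, `q ≥ 4` : `LnQ` / `NegQ` from the blocks (`Bq`) and the stage

* `lnQ_of` : stage `n`; `negQ_of` : stage `-1` (the pure members by `BQ.exists_A`, `Ω₁Z(C_S(V*)) ≤ V*` by `BQ.zcQ'`).
-/

set_option autoImplicit false
set_option linter.unusedSectionVars false

namespace Cfsg.Agent.Omega.NOThreeL.RRed.QFr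

open Subgroup Cfsg Cfsg.Agent.Omega.MinPar Cfsg.Agent.Omega.Frame Cfsg.Agent.ZN.ChoiceBase
open Cfsg.Agent.ZN (jj zj bau zc zl o2)
open Cfsg.Agent.Omega.NO3S.OneLine (bo)
open Cfsg.Agent.Omega.NO3S.Level (lev)
open Cfsg.Agent.Omega.OM.SwapV.Q
open Cfsg.Agent.Omega.NOThreeL.RTree
open Cfsg.Agent.Omega.NOThreeL.Merge (MZ)
open Cfsg.Agent.Omega.NOThreeL.RRed.BFr.StageQ (Stg)

universe u

variable {G : Type u} [Group G] [Finite G] {S : Sylow 2 G} {ι : Type} [Finite ι] {N D l C : ι → Subgroup G} {q : ℕ}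

/-- **Stage `n`.** -/
theorem lnQ_of (B : RB S) (b : Bq S (MZ (S : Subgroup G)) (Wd (S : Subgroup G)) N D l C q)
    (hP : ∀ i, ∃ P, IsParS (S : Subgroup G) P ∧ N i ≤ zl (S : Subgroup G) P) {n : ℕ} (h : Stg S n) :
    ∃ Lb A : ι → Subgroup G, (∀ i, Lb i ≤ MZ (S : Subgroup G)) ∧
      (∀ i, A i ∈ bo (S : Subgroup G) (zc (lev (S : Subgroup G) n))) ∧
      LnQ S (Wd (S : Subgroup G)) ((S : Subgroup G) ⊓ centralizer (Wd (S : Subgroup G) : Set G)) n Lb N l C A q :=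
  exists_lnQ B b hP h (BQ.exists_A b (h.lvQ b.sup))
    (BQ.zcQ' b (h.lvQ b.sup) (MinSimple.VModule.zc_le_zl _ _) h.zcQ_le)
    fun _ h1 h2 h3 => BQ.le_of_cent b (h.lvQ b.sup) (MinSimple.VModule.zc_le_zl _ _) h1 h2 h3

/-- **Stage `-1`.** -/
theorem negQ_of (B : RB S) (b : Bq S (MZ (S : Subgroup G)) (Wd (S : Subgroup G)) N D l C q)
    (hP : ∀ i, ∃ P, IsParS (S : Subgroup G) P ∧ N i ≤ zl (S : Subgroup G) P)
    (hj : ¬ jj (S : Subgroup G) ≤ centralizer (Wd (S : Subgroup G) : Set G)) :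
    ∃ Lb A : ι → Subgroup G, (∀ i, Lb i ≤ MZ (S : Subgroup G)) ∧ (∀ i, A i ∈ AA (S : Subgroup G)) ∧
      NegQ S (Wd (S : Subgroup G)) ((S : Subgroup G) ⊓ centralizer (Wd (S : Subgroup G) : Set G)) Lb N l C A q :=
  exists_negQ B b hP hj (BQ.exists_A b (BFr.StageQ.lvQ_neg B hj b.sup))
    (BQ.zcQ' b (BFr.StageQ.lvQ_neg B hj b.sup) (MinSimple.VModule.zc_le_zl _ _) fun _ hx => BFr.StageQ.le_zjQ hx)
    fun _ h1 h2 h3 => BQ.le_of_cent b (BFr.StageQ.lvQ_neg B hj b.sup) (MinSimple.VModule.zc_le_zl _ _) h1 h2 h3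

end Cfsg.Agent.Omega.NOThreeL.RRed.QFr
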