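import Cfsg.Agent.Omega.OM.SwapV.Q.CorOf
import Cfsg.Agent.Omega.NOThreeL.RRed.BFr.Idx

/-!
# NO-3L, box R: the frame `FrL` over `B = C_S(Z_J)` for natural blocks, `q ≥ 4` : the data

* `SLA F D N e` : `D` acts on `N` as `SL₂(F)` in the coordinates `e`;
* `Bq S M V N D l C q` : `V = ∏ N i`, `C i = ∏_{j ≠ i} N j`, `M` permutes the `N i` transitively, `S` permutes the
  triples `(N i, l i, D i)`, `CorA` + `SLA` on every block, offenders of `S` act as full root groups or trivially (`off`);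
* `LvQ S M V N X L J AA` : the level data (`AA` a family of best offenders on `X ≥ V`, one block is moved).
-/

set_option autoImplicit false
set_option linter.unusedSectionVars false

namespace Cfsg.Agent.Omega.NOThreeL.RRed.QFr

open Subgroup Cfsg Cfsg.Agent.ZN Cfsg.Agent.ZN.ChoiceBase
open Cfsg.Agent.Omega.SQ1.Bau (mem_sup_comm card_sup_comm elem_comm elem_sq)
open Cfsg.Agent.Omega.OM.Lev.Uni (Best)
open Cfsg.Agent.Omega.FFThm (ElemM)
open Cfsg.Agent.Omega.NO3S.OneLine (BFam)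
open Cfsg.Agent.Omega.OM.FourF (Act)
open Cfsg.Agent.Omega.OM.SwapV.Q (CorA)

universe u

variable {G : Type u} [Group G]

/-- `D` acts on `N` as `SL₂(F)` in the coordinates `e`. -/
structure SLA (F : Type) [Field F] (D N : Subgroup G) (e : G → F × F) : Prop where
  nD : ∀ g ∈ D, ∀ w ∈ N, g * w * g⁻¹ ∈ N
  act : ∀ g ∈ D, ∃ a b c d : F, a * d - b * c = 1 ∧ Act N e g (fun p => (a * p.1 + b * p.2, c * p.1 + d * p.2))
  lift : ∀ a b c d : F, a * d - b * c = 1 → ∃ g ∈ D, Act N e g (fun p => (a * p.1 + b * p.2, c * p.1 + d * p.2))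

/-- **Natural blocks.** -/
structure Bq {ι : Type} (S : Sylow 2 G) (M V : Subgroup G) (N D l C : ι → Subgroup G) (q : ℕ) : Prop where
  SM : (S : Subgroup G) ≤ M
  VS : V ≤ (S : Subgroup G)
  MV : ∀ g ∈ M, ∀ v ∈ V, g * v * g⁻¹ ∈ V
  MQ : ∀ g ∈ M, ∀ x ∈ (S : Subgroup G) ⊓ centralizer (V : Set G), g * x * g⁻¹ ∈ (S : Subgroup G)
  el : IsElementaryAbelian 2 V
  NV : ∀ i, N i ≤ V
  CV : ∀ i, C i ≤ V
  WC : ∀ i, ∀ v ∈ V, ∃ w ∈ N i, ∃ c ∈ C i, v = w * c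
  dir : ∀ i, N i ⊓ C i = ⊥
  C0 : ∀ x ∈ V, (∀ i, x ∈ C i) → x = 1
  WjC : ∀ i j, i ≠ j → N j ≤ C i
  sup : V ≤ ⨆ i, N i
  Csup : ∀ i, C i ≤ ⨆ j : {j // j ≠ i}, N j
  perm : ∀ g ∈ M, ∀ i, ∃ j, cj g (N i) = N j ∧ cj g (C i) = C j
  permS : ∀ s ∈ (S : Subgroup G), ∀ i, ∃ j, cj s (N i) = N j ∧ cj s (l i) = l j ∧ cj s (D i) = D j
  tr : ∀ i j, ∃ g ∈ M, cj g (N i) = N j
  DM : ∀ i, D i ≤ M
  DC : ∀ i, ∀ d ∈ D i, ∀ c ∈ C i, d * c = c * d
  q4 : 4 ≤ q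
  nat : ∀ i, ∃ (F : Type) (_ : Field F) (_ : Finite F) (_ : CharP F 2) (e : G → F × F), Nat.card F = q ∧
    CorA F (S : Subgroup G) (N i) (l i) e ∧ SLA F (D i) (N i) e
  off : ∀ A : Subgroup G, A ≤ (S : Subgroup G) → ElemM V A →
    (∀ Y : Subgroup G, Y ≤ V → Nat.card ↥(A ⊓ centralizer (Y : Set G)) * Nat.card Y ≤
      Nat.card A * Nat.card ↥(Y ⊓ centralizer (A : Set G))) →
    ∀ i, A ≤ centralizer (N i : Set G) ∨ ((∀ a ∈ A, ∀ z ∈ l i, a * z = z * a) ∧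
      (∀ a ∈ A, ∀ v ∈ N i, a * v * a⁻¹ * v⁻¹ ∈ l i) ∧
      q * Nat.card ↥(A ⊓ centralizer (N i : Set G)) ≤ Nat.card A)

/-- **The level data.** -/
structure LvQ {ι : Type} (S : Sylow 2 G) (M V : Subgroup G) (N : ι → Subgroup G) (X L J : Subgroup G)
    (AA : Set (Subgroup G)) : Prop where
  ML : M ≤ L
  fam : BFam (S : Subgroup G) X L AA
  elX : IsElementaryAbelian 2 X
  VX : V ≤ X
  XS : X ≤ (S : Subgroup G)
  MX : ∀ g ∈ M, ∀ x ∈ X, g * x * g⁻¹ ∈ X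
  AJ : ∀ A ∈ AA, A ≤ J
  JS : J ≤ (S : Subgroup G)
  Jg : J ≤ sSup AA ⊔ ((S : Subgroup G) ⊓ centralizer (V : Set G))
  mv : ∃ i, ∃ A ∈ AA, ¬ A ≤ centralizer (N i : Set G)

/-- `Z_J = C_V(J)` -/
abbrev ZJ (V J : Subgroup G) : Subgroup G := BFr.ZJ V J

/-- `B = C_S(Z_J)` -/
abbrev BB (S V J : Subgroup G) : Subgroup G := BFr.BB S V J

namespace Bq

variable {ι : Type} {S : Sylow 2 G} {M V : Subgroup G} {N D l C : ι → Subgroup G} {q : ℕ} (b : Bq S M V N D l C q)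
include b

theorem Vc {v w : G} (hv : v ∈ V) (hw : w ∈ V) : v * w = w * v := elem_comm b.el v hv w hw

theorem lN (i : ι) : l i ≤ N i := by
  obtain ⟨F, _, _, _, e, -, c, -⟩ := b.nat i
  exact fun v hv => ((c.memZ v).1 hv).1

theorem card_l (i : ι) : Nat.card (l i) = q := by
  obtain ⟨F, _, _, _, e, hF, c, -⟩ := b.nat i
  rw [← hF]
  refine Nat.card_congr (Equiv.ofBijective (fun v : l i => (e v).1) ⟨?_, fun x => ?_⟩)
  · rintro ⟨v, hv⟩ ⟨w, hw⟩ hvw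
    have h1 := (c.memZ v).1 hv
    have h2 := (c.memZ w).1 hw
    exact Subtype.ext (c.inj v h1.1 w h2.1 (Prod.ext hvw (h1.2.trans h2.2.symm)))
  · obtain ⟨v, hv, hve⟩ := c.surj (x, 0)
    refine ⟨⟨v, (c.memZ v).2 ⟨hv, by rw [hve]⟩⟩, ?_⟩
    show (e v).1 = x
    rw [hve]

theorem card_N (i : ι) : Nat.card (N i) = q * q := by
  obtain ⟨F, _, _, _, e, hF, c, -⟩ := b.nat i
  rw [← hF, ← Nat.card_prod]
  refine Nat.card_congr (Equiv.ofBijective (fun v : N i => e v) ⟨?_, fun x => ?_⟩)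
  · rintro ⟨v, hv⟩ ⟨w, hw⟩ hvw
    exact Subtype.ext (c.inj v hv w hw hvw)
  · obtain ⟨v, hv, hve⟩ := c.surj x
    exact ⟨⟨v, hv⟩, hve⟩

theorem exists_ne (i : ι) : ∃ z ∈ l i, z ≠ 1 := by
  by_contra hcon
  push Not at hcon
  have h1 : l i = ⊥ := (eq_bot_iff_forall _).2 hcon
  have h2 := b.card_l i
  rw [h1, card_bot] at h2
  have := b.q4
  omega

theorem N_inj {i j : ι} (e : N i = N j) : i = j := by
  by_contra hne
  obtain ⟨z, hz, hz1⟩ := b.exists_ne i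
  have h1 : z ∈ N i := b.lN i hz
  have h2 : z ∈ N i ⊓ C i := mem_inf.2 ⟨h1, b.WjC i j hne (e ▸ h1)⟩
  rw [b.dir i, mem_bot] at h2
  exact hz1 h2

theorem l_inj {i j : ι} (e : l i = l j) : i = j := by
  by_contra hne
  obtain ⟨z, hz, hz1⟩ := b.exists_ne i
  have h2 : z ∈ N i ⊓ C i := mem_inf.2 ⟨b.lN i hz, b.WjC i j hne (b.lN j (e ▸ hz))⟩
  rw [b.dir i, mem_bot] at h2
  exact hz1 h2

/-- an element of `M` which normalises `N i` normalises `C i` -/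
theorem cj_C {g : G} (hg : g ∈ M) {i j : ι} (e : cj g (N i) = N j) : cj g (C i) = C j := by
  obtain ⟨k, h1, h2⟩ := b.perm g hg i
  rw [h2, b.N_inj (h1.symm.trans e)]

theorem cj_l {s : G} (hs : s ∈ (S : Subgroup G)) {i j : ι} (e : cj s (N i) = N j) : cj s (l i) = l j := by
  obtain ⟨k, h1, h2, -⟩ := b.permS s hs i
  rw [h2, b.N_inj (h1.symm.trans e)]

theorem cj_N {s : G} (hs : s ∈ (S : Subgroup G)) {i j : ι} (e : cj s (l i) = l j) : cj s (N i) = N j := by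
  obtain ⟨k, h1, h2, -⟩ := b.permS s hs i
  rw [h1, b.l_inj (h2.symm.trans e)]

/-- elements centralising all blocks centralise `V` -/
theorem cent_V {g : G} (h : ∀ i, ∀ v ∈ N i, g * v = v * g) : ∀ v ∈ V, g * v = v * g := by
  have h1 : V ≤ centralizer ({g} : Set G) := b.sup.trans (iSup_le fun i v hv =>
    mem_centralizer_singleton_iff.2 (h i v hv).symm)
  exact fun v hv => (mem_centralizer_singleton_iff.1 (h1 hv)).symm

/-- elements centralising the other blocks centralise `C i` -/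
theorem cent_C {g : G} {i : ι} (h : ∀ j, j ≠ i → ∀ v ∈ N j, g * v = v * g) : ∀ v ∈ C i, g * v = v * g := by
  have h1 : C i ≤ centralizer ({g} : Set G) := (b.Csup i).trans (iSup_le fun j v hv =>
    mem_centralizer_singleton_iff.2 (h j.1 j.2 v hv).symm)
  exact fun v hv => (mem_centralizer_singleton_iff.1 (h1 hv)).symm

end Bq

end Cfsg.Agent.Omega.NOThreeL.RRed.QFr
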