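import Cfsg.Agent.Omega.NOThreeL.RRed.QFr.Frame
import Cfsg.Agent.Omega.NOThreeL.RRed.BFr.StageQ
import Cfsg.Agent.Omega.NOThreeL.RRed.BFr.DataQ

/-!
# NO-3L, box R, natural blocks, `q ≥ 4` : the ground frames `LnQ` (stage `n`) and `NegQ` (stage `-1`)

`b : Bq S (MZ S) (Wd S) N D l C q`, every `N i` lies in some `V_P`, `P ∈ P*(S)`.

* `wd_eq` : `V* = ⟨V_P : P ∈ P*(S)⟩`; `perm`;
* **`exists_lnQ`** : `Stg S n`, a pure member for every block (`ex`), `ZcQ`, `le_of_cent` (`hc`) ⟹ `LnQ`;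
* **`exists_negQ`** : `J(S)` moves `V*`, the same ⟹ `NegQ`.
-/

set_option autoImplicit false
set_option linter.unusedSectionVars false

namespace Cfsg.Agent.Omega.NOThreeL.RRed.QFr

open Subgroup Cfsg Cfsg.Agent.Omega.MinPar Cfsg.Agent.Omega.Frame Cfsg.Agent.ZN.ChoiceBase
open Cfsg.Agent.ZN (jj zj bau zc zl o2)
open Cfsg.Agent.Omega.SQ1.Bau (mem_sup_comm card_sup_comm elem_comm elem_sq)
open Cfsg.Agent.Omega.FFThm (ElemM)
open Cfsg.Agent.Omega.NO3S.OneLine (BFam bo bo_fam)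
open Cfsg.Agent.Omega.NO3S.Level (lev Lev lev_isLev nxt BO)
open Cfsg.Agent.Omega.OM.SwapL (BL ZL)
open Cfsg.Agent.Omega.OM.Lev.Uni (FrL)
open Cfsg.Agent.Omega.OM.FourF (Act)
open Cfsg.Agent.Omega.OM.SwapV.Q
open Cfsg.Agent.Omega.NOThreeL.RTree
open Cfsg.Agent.Omega.NOThreeL.Merge (MZ)
open Cfsg.Agent.Omega.NOThreeL.RRed.BFr.StageQ

universe u

variable {G : Type u} [Group G] [Finite G] {S : Sylow 2 G} {ι : Type} {M V : Subgroup G}
  {N D l C : ι → Subgroup G} {q : ℕ}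

/-- **`V* = ⟨V_P⟩`.** -/
theorem wd_eq (hN : Wd (S : Subgroup G) ≤ ⨆ i, N i)
    (hP : ∀ i, ∃ P, IsParS (S : Subgroup G) P ∧ N i ≤ zl (S : Subgroup G) P) :
    Wd (S : Subgroup G) = ⨆ P ∈ {P | IsParS (S : Subgroup G) P}, zl (S : Subgroup G) P := by
  apply le_antisymm
  · refine hN.trans (iSup_le fun i => ?_)
    obtain ⟨P, h1, h2⟩ := hP i
    exact h2.trans (le_iSup₂ (f := fun P (_ : P ∈ {P | IsParS (S : Subgroup G) P}) => zl (S : Subgroup G) P) P h1)
  · exact iSup₂_le fun P h1 => zl_le_Wd h1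

omit [Finite G] in
theorem perm (b : Bq S M V N D l C q) : ∀ s ∈ (S : Subgroup G), ∀ i j, cj s (l i) = l j →
    cj s (N i) = N j ∧ cj s (C i) = C j := fun _ hs _ _ e =>
  ⟨b.cj_N hs e, b.cj_C (b.SM hs) (b.cj_N hs e)⟩

/-- **THE GROUND FRAME, stage `n`.** -/
theorem exists_lnQ [Finite ι] (B : RB S) (b : Bq S (MZ (S : Subgroup G)) (Wd (S : Subgroup G)) N D l C q)
    (hP : ∀ i, ∃ P, IsParS (S : Subgroup G) P ∧ N i ≤ zl (S : Subgroup G) P) {n : ℕ} (h : Stg S n)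
    (ex : ∀ i, ∃ A ∈ bo (S : Subgroup G) (zc (lev (S : Subgroup G) n)), ¬ A ≤ centralizer (N i : Set G) ∧
      ∀ j, j ≠ i → A ≤ centralizer (N j : Set G))
    (hz : ZcQ (S : Subgroup G) (Wd (S : Subgroup G)))
    (hc : ∀ W : Subgroup G, W ≤ zc (lev (S : Subgroup G) n) →
      (∀ w ∈ W, ∀ j ∈ lev (S : Subgroup G) (n + 1), j * w = w * j) →
      (∀ s ∈ (S : Subgroup G), ∀ w ∈ W, s * w * s⁻¹ ∈ W) → W ≤ Wd (S : Subgroup G)) :
    ∃ Lb A : ι → Subgroup G, (∀ i, Lb i ≤ MZ (S : Subgroup G)) ∧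
      (∀ i, A i ∈ bo (S : Subgroup G) (zc (lev (S : Subgroup G) n))) ∧
      LnQ S (Wd (S : Subgroup G)) ((S : Subgroup G) ⊓ centralizer (Wd (S : Subgroup G) : Set G)) n Lb N l C A q := by
  have hl : Lq S (MZ (S : Subgroup G)) (Wd (S : Subgroup G)) N D l C q (zc (lev (S : Subgroup G) n))
      (normalizer (zc (lev (S : Subgroup G) n) : Set G)) (lev (S : Subgroup G) (n + 1))
      (bo (S : Subgroup G) (zc (lev (S : Subgroup G) n))) := ⟨b, h.lvQ b.sup, ex⟩
  obtain ⟨Lb, A, h1, h2, h3, h4⟩ := exists_frL hl hz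
  have e1 : BFr.ZJ (Wd (S : Subgroup G)) (lev (S : Subgroup G) (n + 1)) = ZL (S : Subgroup G) n := h.ZJ_eq B hc
  have e2 : BB (S : Subgroup G) (Wd (S : Subgroup G)) (lev (S : Subgroup G) (n + 1)) = BL (S : Subgroup G) n := by
    rw [BB, BFr.BB, e1]; rfl
  rw [ZJ, e1, e2] at h3
  simp only [e2] at h4
  exact ⟨Lb, A, h1, h2, BFr.DataQ.lnQ_of_data B.ctx.char2 B.data.toLow (fun _ hP => hP) (wd_eq b.sup hP) h3 h.levQ
    (perm b) h4⟩

section neg

variable {L J X : Subgroup G} {AA' : Set (Subgroup G)}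

/-- a subgroup of `S` centralising the line: `|A : C_A(N i)| ≤ q` -/
theorem card_le_of_CorA {F : Type} [Field F] [Finite F] {S W Z : Subgroup G} {e : G → F × F} (c : CorA F S W Z e)
    {A : Subgroup G} (hA : A ≤ S) (hn : ∀ a ∈ A, ∀ w ∈ W, a * w * a⁻¹ ∈ W)
    (hc : ∀ a ∈ A, ∀ z ∈ Z, a * z = z * a) :
    Nat.card A ≤ Nat.card F * Nat.card ↥(A ⊓ centralizer (W : Set G)) := by
  classical
  have h1 : ∀ a : A, ∃ m : F, Act W e a fun p => (p.1 + m * p.2, p.2) := fun a => c.up_of (hA a.2) (hc a a.2)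
  choose f hf using h1
  obtain ⟨v, hv, hve⟩ := c.surj (0, 1)
  have hfv : ∀ a : A, (e ((a : G) * v * (a : G)⁻¹)).1 = f a := by
    intro a
    rw [hf a v hv, hve]
    simp
  have hadd : ∀ a b : A, f (a * b) = f a + f b := by
    intro a b
    rw [← hfv (a * b)]
    have e1 : ((a * b : A) : G) * v * ((a * b : A) : G)⁻¹ = (a : G) * ((b : G) * v * (b : G)⁻¹) * (a : G)⁻¹ := by
      rw [Subgroup.coe_mul]; group
    rw [e1, hf a _ (hn b b.2 v hv), hf b v hv, hve]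
    simp [add_comm]
  let φ : A →* Multiplicative F := MonoidHom.mk' (fun a => Multiplicative.ofAdd (f a)) (by
    intro a b
    show Multiplicative.ofAdd (f (a * b)) = _
    rw [hadd a b]
    rfl)
  have hker : Nat.card φ.ker ≤ Nat.card ↥(A ⊓ centralizer (W : Set G)) := by
    refine Nat.card_le_card_of_injective (fun a : φ.ker => (⟨(a.1 : G), a.1.2, ?_⟩ : ↥(A ⊓ centralizer (W : Set G)))) ?_
    · refine mem_centralizer_iff.2 fun w hw => ?_
      have h0 : f a.1 = 0 := congrArg Multiplicative.toAdd (MonoidHom.mem_ker.1 a.2)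
      have h2 := hf a.1 w hw
      rw [h0] at h2
      simp only [zero_mul, add_zero] at h2
      have h3 : (a.1 : G) * w * (a.1 : G)⁻¹ = w := c.inj _ (hn a.1 a.1.2 w hw) w hw h2
      exact (mul_inv_eq_iff_eq_mul.1 h3).symm
    · intro x y hxy
      have h0 : (x.1 : G) = y.1 := congrArg (fun t : ↥(A ⊓ centralizer (W : Set G)) => (t : G)) hxy
      exact Subtype.ext (Subtype.ext h0)
  have hmul : Nat.card φ.ker * Nat.card φ.range = Nat.card A := by
    rw [← Subgroup.index_ker, Subgroup.card_mul_index]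
  have hF : Finite (Multiplicative F) := inferInstanceAs (Finite F)
  have hr : Nat.card φ.range ≤ Nat.card F := Subgroup.card_le_card_group φ.range
  calc Nat.card A = Nat.card φ.ker * Nat.card φ.range := hmul.symm
    _ ≤ Nat.card ↥(A ⊓ centralizer (W : Set G)) * Nat.card F := Nat.mul_le_mul hker hr
    _ = _ := Nat.mul_comm _ _

/-- **a pure member `A` of a family of best offenders on `V`: another member centralises `V`.** -/
theorem Lq.exists_cent (h : Lq S M V N D l C q X L J AA') (hf : BFam (S : Subgroup G) V L AA') (i : ι) :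
    ∃ A ∈ AA', A ≤ centralizer (V : Set G) := by
  obtain ⟨A, hA, h1, h2, h3, h4, h5⟩ := h.exists_A i
  obtain ⟨F, _, _, _, e, hF, c, -⟩ := h.b.nat i
  have hAC : A ⊓ centralizer (N i : Set G) ≤ centralizer (V : Set G) := by
    rintro a ⟨ha, hc⟩
    refine mem_centralizer_iff.2 fun v hv => (h.b.cent_V (fun j w hw => ?_) v hv).symm
    by_cases hj : j = i
    · subst hj; exact (mem_centralizer_iff.1 hc w hw).symm
    · exact (mem_centralizer_iff.1 (h1 j hj ha) w hw).symm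
  set A₁ := A ⊓ centralizer (V : Set G) with hA₁
  have k1 : Nat.card A ≤ q * Nat.card A₁ := by
    have := card_le_of_CorA c (h.AS hA) h4 h3
    rw [hF] at this
    exact this.trans (Nat.mul_le_mul_left _ (card_le_of_le (le_inf inf_le_left hAC)))
  -- `q |C_V(A)| ≤ |V|`
  set Y := V ⊓ centralizer (A : Set G) with hY
  have k2 : Nat.card ↥(N i ⊓ Y) ≤ q := by
    rw [← h.b.card_l i]
    refine card_le_of_le fun w hw => ?_
    exact h.fix_l hA h3 h4 h5 hw.1 fun a ha => mem_centralizer_iff.1 hw.2.2 a ha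
  have k3 : q * Nat.card Y ≤ Nat.card V := by
    have e1 := card_sup_comm (A := N i) (B := Y) fun x hx y hy => h.b.Vc (h.b.NV i hx) hy.1
    have e2 : Nat.card ↥(N i ⊔ Y) ≤ Nat.card V := card_le_of_le (sup_le (h.b.NV i) inf_le_left)
    have hq : 0 < q := by have := h.b.q4; omega
    refine Nat.le_of_mul_le_mul_left ?_ hq
    calc q * (q * Nat.card Y) = Nat.card (N i) * Nat.card Y := by rw [h.b.card_N i]; ring
      _ = Nat.card ↥(N i ⊔ Y) * Nat.card ↥(N i ⊓ Y) := by rw [e1]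
      _ ≤ Nat.card V * q := Nat.mul_le_mul e2 k2
      _ = _ := Nat.mul_comm _ _
  have h6 := hf.best A hA A₁ le_rfl inf_le_left
  have h7 : V ⊓ centralizer (A₁ : Set G) = V :=
    inf_eq_left.2 fun v hv => mem_centralizer_iff.2 fun x hx => (mem_centralizer_iff.1 hx.2 v hv).symm
  rw [h7] at h6
  have h8 : Nat.card A * Nat.card Y ≤ Nat.card A₁ * Nat.card V := by
    calc Nat.card A * Nat.card Y ≤ q * Nat.card A₁ * Nat.card Y := Nat.mul_le_mul_right _ k1
      _ = Nat.card A₁ * (q * Nat.card Y) := by ring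
      _ ≤ _ := Nat.mul_le_mul_left _ k3
  obtain ⟨A', hA', hAe⟩ := hf.cut A hA A₁ le_rfl inf_le_left (by rw [h7]; exact le_antisymm h6 h8)
  exact ⟨A', hA', (le_sup_left.trans hAe.le).trans (sup_le inf_le_right le_rfl)⟩

/-- **THE GROUND FRAME, stage `-1`.** -/
theorem exists_negQ [Finite ι] (B : RB S) (b : Bq S (MZ (S : Subgroup G)) (Wd (S : Subgroup G)) N D l C q)
    (hP : ∀ i, ∃ P, IsParS (S : Subgroup G) P ∧ N i ≤ zl (S : Subgroup G) P)
    (hj : ¬ jj (S : Subgroup G) ≤ centralizer (Wd (S : Subgroup G) : Set G))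
    (ex : ∀ i, ∃ A ∈ AA (S : Subgroup G), ¬ A ≤ centralizer (N i : Set G) ∧
      ∀ j, j ≠ i → A ≤ centralizer (N j : Set G))
    (hz : ZcQ (S : Subgroup G) (Wd (S : Subgroup G)))
    (hc : ∀ W : Subgroup G, W ≤ zc (jj ((S : Subgroup G) ⊓ centralizer (Wd (S : Subgroup G) : Set G))) →
      (∀ w ∈ W, ∀ j ∈ jj (S : Subgroup G), j * w = w * j) →
      (∀ s ∈ (S : Subgroup G), ∀ w ∈ W, s * w * s⁻¹ ∈ W) → W ≤ Wd (S : Subgroup G)) :
    ∃ Lb A : ι → Subgroup G, (∀ i, Lb i ≤ MZ (S : Subgroup G)) ∧ (∀ i, A i ∈ AA (S : Subgroup G)) ∧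
      NegQ S (Wd (S : Subgroup G)) ((S : Subgroup G) ⊓ centralizer (Wd (S : Subgroup G) : Set G)) Lb N l C A q := by
  have hl : Lq S (MZ (S : Subgroup G)) (Wd (S : Subgroup G)) N D l C q
      (zc (jj ((S : Subgroup G) ⊓ centralizer (Wd (S : Subgroup G) : Set G)))) ⊤ (jj (S : Subgroup G))
      (AA (S : Subgroup G)) := ⟨b, lvQ_neg B hj b.sup, ex⟩
  obtain ⟨i₀, -⟩ := hl.lv.mv
  have hfV : BFam (S : Subgroup G) (Wd (S : Subgroup G)) ⊤ (AA (S : Subgroup G)) := by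
    have h1 := NO3S.Level.bfam_AA (S := S) (L := (⊤ : Subgroup G)) (W_elem B) (WS B)
    exact ⟨h1.le, h1.elem, h1.best, h1.cut, h1.conj⟩
  obtain ⟨A₀, hA₀, hA₀c⟩ := hl.exists_cent hfV i₀
  obtain ⟨Lb, A, h1, h2, h3, h4⟩ := exists_frL hl hz
  have e1 : BFr.ZJ (Wd (S : Subgroup G)) (jj (S : Subgroup G)) = zj (S : Subgroup G) :=
    ZJ_neg B ⟨A₀, hA₀, le_inf hA₀.2.1 hA₀c⟩ hc
  have e2 : BB (S : Subgroup G) (Wd (S : Subgroup G)) (jj (S : Subgroup G)) = bau (S : Subgroup G) := by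
    rw [BB, BFr.BB, e1]; rfl
  rw [ZJ, e1, e2] at h3
  simp only [e2] at h4
  have hfr : OM.Uni.Fr (bau (S : Subgroup G)) ((S : Subgroup G) ⊓ centralizer (Wd (S : Subgroup G) : Set G))
      (Wd (S : Subgroup G)) (zj (S : Subgroup G)) Lb N l C A q (mm (S : Subgroup G)) :=
    { max := OM.Uni.mx_sylow S
      blk := h3.blk
      cardZ := h3.cardZ
      QB := h3.QB
      VQ := h3.VQ
      el := W_elem B
      mem_Q := h3.mem_Q
      zcQ := h3.zcQ
      mem_ZJ := h3.mem_ZJ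
      LV := h3.LV
      LQ := h3.LQ
      WV := h3.WV
      CV := h3.CV
      WC := h3.WC
      dir := h3.dir
      C0 := h3.C0
      WjC := h3.WjC
      BC := h3.BC
      LC := h3.LC
      AB := h3.AB
      Ael := fun i => (h2 i).1
      Am := fun i => (mm_eq (h2 i)).symm
      Ane := h3.Ane
      AC := h3.AC }
  exact ⟨Lb, A, h1, h2, BFr.DataQ.negQ_of_data B.ctx.char2 B.data.toLow (fun _ hP => hP) (wd_eq b.sup hP) hfr
    (perm b) h4⟩

end neg

end Cfsg.Agent.Omega.NOThreeL.RRed.QFr
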