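import Cfsg.Agent.Omega.NOThreeL.RRed.QFr.Def
import Cfsg.Agent.Omega.NOThreeL.RRed.BFr.Plug

/-!
# NO-3L, box R, natural blocks, one class: a level which moves `V*` moves all blocks (#24972 (3), #25584 (N7))

`B : RB S`, `b : Bq S (MZ S) (Wd S) N D l C q`, `V* = Wd S`.

* `off_of_best` : a best offender in the form of `Bq.off`; `Bq.fix` : the best offenders normalise all `N i`;
* `wd_le_zc_lev` : `lev S n ≤ C(V*)` implies `V* ≤ Ω₁Z(lev S n)`;
* `exists_stage` : `J(S)` moves `V*`, or `V* ≤ Ω₁Z(lev S n)` and `lev S (n+1)` moves `V*`, or no level moves `V*`;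
* **`mv_neg`, `mv_lev`** : then every block is moved by a member of `𝒜(S)` resp. of `bo S (Ω₁Z(lev S n))`;
* **`lvQ_neg`, `lvQ_lev`** : the level data `LvQ`.
-/

set_option autoImplicit false
set_option linter.unusedSectionVars false

namespace Cfsg.Agent.Omega.NOThreeL.RRed.QFr

open Subgroup Cfsg Cfsg.Agent.ZN.ChoiceBase Cfsg.Agent.Omega.MinPar
open Cfsg.Agent.ZN (jj zj bau zc zl o2)
open Cfsg.Agent.Omega.FFThm (ElemM)
open Cfsg.Agent.Omega.NO3S.OneLine (BFam bo bo_fam bo_eq)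
open Cfsg.Agent.Omega.NO3S.Level (lev lev_isLev nxt BO bfam_BO)
open Cfsg.Agent.Omega.NOThreeL.Merge (MZ le_MZ S_le_MZ)
open Cfsg.Agent.Omega.NOThreeL.RTree (RB)
open Cfsg.Agent.Omega.NOThreeL.RRed (Wd)
open Cfsg.Agent.Omega.NOThreeL.RRed.HypJOf (Fx mem_fx par_move norm_jj wd_le)
open Cfsg.Agent.PLocal.ElemAbSup (card_sup_mul_card_inf)

open scoped Pointwise

universe u

variable {G : Type u} [Group G]

/-- best offenders in the form of `Bq.off` -/
theorem off_of_best [Finite G] {V A : Subgroup G} (hV : ∀ x ∈ V, ∀ y ∈ V, x * y = y * x)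
    (hb : ∀ B : Subgroup G, A ⊓ centralizer (V : Set G) ≤ B → B ≤ A →
      Nat.card B * Nat.card ↥(V ⊓ centralizer (B : Set G)) ≤ Nat.card A * Nat.card ↥(V ⊓ centralizer (A : Set G))) :
    ∀ Y ≤ V, Nat.card ↥(A ⊓ centralizer (Y : Set G)) * Nat.card Y ≤
      Nat.card A * Nat.card ↥(Y ⊓ centralizer (A : Set G)) := by
  intro Y hY
  have h1 := hb (A ⊓ centralizer (Y : Set G)) (inf_le_inf_left _ (centralizer_le hY)) inf_le_left
  have h2 : Y ⊔ (V ⊓ centralizer (A : Set G)) ≤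
      V ⊓ centralizer ((A ⊓ centralizer (Y : Set G) : Subgroup G) : Set G) := by
    refine sup_le (le_inf hY fun y hy => mem_centralizer_iff.2 fun a ha => ?_)
      (inf_le_inf_left _ (centralizer_le inf_le_left))
    exact (mem_centralizer_iff.1 ha.2 y hy).symm
  have h3 : V ⊓ centralizer (A : Set G) ≤ centralizer (Y : Set G) := fun v hv =>
    mem_centralizer_iff.2 fun y hy => hV y (hY hy) v hv.1
  have h4 := card_sup_mul_card_inf h3
  have e : Y ⊓ (V ⊓ centralizer (A : Set G)) = Y ⊓ centralizer (A : Set G) := by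
    rw [← inf_assoc, inf_eq_left.2 hY]
  rw [e] at h4
  have h5 := card_le_of_le h2
  have hp : 0 < Nat.card ↥(V ⊓ centralizer (A : Set G)) := Nat.card_pos
  refine Nat.le_of_mul_le_mul_right (c := Nat.card ↥(V ⊓ centralizer (A : Set G))) ?_ hp
  calc Nat.card ↥(A ⊓ centralizer (Y : Set G)) * Nat.card Y * Nat.card ↥(V ⊓ centralizer (A : Set G))
      = Nat.card ↥(A ⊓ centralizer (Y : Set G)) * (Nat.card Y * Nat.card ↥(V ⊓ centralizer (A : Set G))) := by ring
    _ = Nat.card ↥(A ⊓ centralizer (Y : Set G)) * (Nat.card ↥(Y ⊔ (V ⊓ centralizer (A : Set G))) *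
        Nat.card ↥(Y ⊓ centralizer (A : Set G))) := by rw [h4]
    _ ≤ Nat.card ↥(A ⊓ centralizer (Y : Set G)) *
        (Nat.card ↥(V ⊓ centralizer ((A ⊓ centralizer (Y : Set G) : Subgroup G) : Set G)) *
        Nat.card ↥(Y ⊓ centralizer (A : Set G))) := Nat.mul_le_mul_left _ (Nat.mul_le_mul_right _ h5)
    _ = Nat.card ↥(A ⊓ centralizer (Y : Set G)) *
        Nat.card ↥(V ⊓ centralizer ((A ⊓ centralizer (Y : Set G) : Subgroup G) : Set G)) *
        Nat.card ↥(Y ⊓ centralizer (A : Set G)) := by ring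
    _ ≤ Nat.card A * Nat.card ↥(V ⊓ centralizer (A : Set G)) * Nat.card ↥(Y ⊓ centralizer (A : Set G)) :=
        Nat.mul_le_mul_right _ h1
    _ = _ := by ring

namespace Bq

variable {ι : Type} {S : Sylow 2 G} {M V : Subgroup G} {N D l C : ι → Subgroup G} {q : ℕ} (b : Bq S M V N D l C q)
include b

/-- **Best offenders fix all blocks.** -/
theorem fix {A : Subgroup G} (hAS : A ≤ (S : Subgroup G)) (hE : ElemM V A)
    (hb : ∀ Y ≤ V, Nat.card ↥(A ⊓ centralizer (Y : Set G)) * Nat.card Y ≤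
      Nat.card A * Nat.card ↥(Y ⊓ centralizer (A : Set G))) (i : ι) : A ≤ normalizer (N i : Set G) := by
  rcases b.off A hAS hE hb i with h1 | ⟨-, h1, -⟩
  · exact h1.trans (centralizer_le_normalizer _)
  · have key : ∀ a ∈ A, ∀ v ∈ N i, a * v * a⁻¹ ∈ N i := fun a ha v hv => by
      have h2 := mul_mem (b.lN i (h1 a ha v hv)) hv
      rwa [inv_mul_cancel_right] at h2
    intro a ha
    rw [mem_normalizer_iff]
    intro v
    refine ⟨fun hv => key a ha v hv, fun hv => ?_⟩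
    have h2 := key a⁻¹ (inv_mem ha) _ hv
    have e : a⁻¹ * (a * v * a⁻¹) * a⁻¹⁻¹ = v := by group
    rwa [e] at h2

/-- a subgroup which moves `V` moves a block -/
theorem exists_mv {J : Subgroup G} (hJ : ¬ J ≤ centralizer (V : Set G)) : ∃ i, ¬ J ≤ centralizer (N i : Set G) := by
  by_contra hcon
  push Not at hcon
  refine hJ fun g hg => mem_centralizer_iff.2 fun v hv => ?_
  exact (b.cent_V (g := g) (fun i w hw => (mem_centralizer_iff.1 (hcon i hg) w hw).symm) v hv).symm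

end Bq

section box

variable [Finite G] {S : Sylow 2 G}

theorem wd_sq (B : RB S) : ∀ x ∈ Wd (S : Subgroup G), x ^ 2 = 1 := by
  intro x hx
  exact zl_MZ_sq B.ctx.char2 B.data.noff x hx

/-- If `lev S n` centralises `V*` then `V* ≤ Ω₁Z(lev S n)`. -/
theorem wd_le_zc_lev (B : RB S) {n : ℕ}
    (hn : lev (S : Subgroup G) n ≤ centralizer (Wd (S : Subgroup G) : Set G)) :
    Wd (S : Subgroup G) ≤ zc (lev (S : Subgroup G) n) := by
  intro v hv
  have hc : ∀ y ∈ lev (S : Subgroup G) n, y * v = v * y := fun y hy => (mem_centralizer_iff.1 (hn hy) v hv).symm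
  exact (lev_isLev (S : Subgroup G) n).mem_of_comm (wd_le B hv) (wd_sq B v hv) hc

/-- **The stage.** -/
theorem exists_stage (B : RB S) :
    ¬ jj (S : Subgroup G) ≤ centralizer (Wd (S : Subgroup G) : Set G) ∨
    (∃ n, Wd (S : Subgroup G) ≤ zc (lev (S : Subgroup G) n) ∧
      ¬ lev (S : Subgroup G) (n + 1) ≤ centralizer (Wd (S : Subgroup G) : Set G)) ∨
    ∀ n, lev (S : Subgroup G) n ≤ centralizer (Wd (S : Subgroup G) : Set G) := by
  classical
  by_cases hall : ∀ n, lev (S : Subgroup G) n ≤ centralizer (Wd (S : Subgroup G) : Set G)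
  · exact Or.inr (Or.inr hall)
  · push Not at hall
    have h1 := Nat.find_spec hall
    have h2 := fun m (hm : m < Nat.find hall) => Nat.find_min hall hm
    rcases hm : Nat.find hall with _ | m
    · rw [hm] at h1
      exact Or.inl h1
    · rw [hm] at h1
      refine Or.inr (Or.inl ⟨m, wd_le_zc_lev B (not_not.1 (h2 m (by omega))), h1⟩)

/-- `V* ≤ Ω₁Z(J(C_S(V*)))` -/
theorem wd_le_X (B : RB S) : Wd (S : Subgroup G) ≤
    zc (jj ((S : Subgroup G) ⊓ centralizer (Wd (S : Subgroup G) : Set G))) := by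
  intro v hv
  have hsq : v ^ 2 = 1 := wd_sq B v hv
  have hcm : ∀ y ∈ (S : Subgroup G) ⊓ centralizer (Wd (S : Subgroup G) : Set G), y * v = v * y := fun y hy =>
    (mem_centralizer_iff.1 hy.2 v hv).symm
  have h1 : v ∈ (S : Subgroup G) ⊓ centralizer (Wd (S : Subgroup G) : Set G) :=
    ⟨wd_le B hv, Merge.zl_MZ_comm B.ctx B.data.noff hv⟩
  have h2 : ∀ y ∈ jj ((S : Subgroup G) ⊓ centralizer (Wd (S : Subgroup G) : Set G)), y * v = v * y := fun y hy =>
    hcm y (jj_le _ hy)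
  exact mem_zc.2 ⟨mem_jj_of_comm h1 hsq h2, hsq, h2⟩

variable {ι : Type} {N D l C : ι → Subgroup G} {q : ℕ}
  (B : RB S) (b : Bq S (MZ (S : Subgroup G)) (Wd (S : Subgroup G)) N D l C q)
include B b

theorem mv_blocks {J : Subgroup G} (hJS : J ≤ (S : Subgroup G)) (hJn : (S : Subgroup G) ≤ normalizer (J : Set G))
    (hJF : ∀ i, J ≤ normalizer (N i : Set G))
    (hJP : ∀ P, IsParS (S : Subgroup G) P → J ≤ o2 P → P ≤ normalizer (J : Set G))
    (hJ : ¬ J ≤ centralizer (Wd (S : Subgroup G) : Set G)) : ∀ i, ¬ J ≤ centralizer (N i : Set G) := by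
  have hSM := S_le_MZ B.ctx B.full
  have hperm : ∀ g ∈ MZ (S : Subgroup G), ∀ i, ∃ j, MulAut.conj g • N i = N j := fun g hg i => by
    obtain ⟨c, hc, -⟩ := b.perm g hg i
    exact ⟨c, hc⟩
  have hF : J ≤ Fx (MZ (S : Subgroup G)) N := fun g hg => mem_fx.2 ⟨hSM (hJS hg), fun i => hJF i hg⟩
  refine NOThreeL.RWide.LemM.mv_all (PP := {P | IsParS (S : Subgroup G) P}) hperm ?_ b.tr (b.exists_mv hJ)
  intro P hP
  exact par_move hperm hP (le_MZ hP) hF hJS hJn (hJP P hP)

/-- **Stage `-1`**: all blocks are moved. -/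
theorem mv_neg (hj : ¬ jj (S : Subgroup G) ≤ centralizer (Wd (S : Subgroup G) : Set G)) (i : ι) :
    ∃ A ∈ AA (S : Subgroup G), ¬ A ≤ centralizer (N i : Set G) := by
  have hcV : ∀ x ∈ Wd (S : Subgroup G), ∀ y ∈ Wd (S : Subgroup G), x * y = y * x := fun x hx y hy => b.Vc hx hy
  have hfam := NO3S.Level.bfam_AA (L := (⊤ : Subgroup G)) b.el (wd_le B)
  have hfix : ∀ i, jj (S : Subgroup G) ≤ normalizer (N i : Set G) := by
    intro i
    rw [jj_eq]
    exact sSup_le fun A hA => b.fix hA.2.1 (hfam.elem A hA) (off_of_best hcV (hfam.best A hA)) i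
  have h1 := mv_blocks B b (jj_le _) (le_normalizer.trans (normalizer_le_jj _)) hfix
    (fun P hP hle => norm_jj hP hle) hj i
  by_contra hcon
  push Not at hcon
  refine h1 ?_
  rw [jj_eq]
  exact sSup_le hcon

/-- **Stage `n`**: all blocks are moved. -/
theorem mv_lev {n : ℕ} (hX : Wd (S : Subgroup G) ≤ zc (lev (S : Subgroup G) n))
    (hn : ¬ lev (S : Subgroup G) (n + 1) ≤ centralizer (Wd (S : Subgroup G) : Set G)) (i : ι) :
    ∃ A ∈ bo (S : Subgroup G) (zc (lev (S : Subgroup G) n)), ¬ A ≤ centralizer (N i : Set G) := by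
  have hcV : ∀ x ∈ Wd (S : Subgroup G), ∀ y ∈ Wd (S : Subgroup G), x * y = y * x := fun x hx y hy => b.Vc hx hy
  have hfam := bfam_BO (S := (S : Subgroup G)) (L := ⊥) hX bot_le
  have hC : (S : Subgroup G) ⊓ centralizer (zc (lev (S : Subgroup G) n) : Set G) ≤
      centralizer (Wd (S : Subgroup G) : Set G) := inf_le_right.trans (centralizer_le hX)
  have hfix : ∀ i, lev (S : Subgroup G) (n + 1) ≤ normalizer (N i : Set G) := by
    intro i
    refine sup_le (hC.trans ((centralizer_le (b.NV i)).trans (centralizer_le_normalizer _))) (sSup_le fun A hA => ?_)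
    exact b.fix hA.1 (hfam.elem A hA) (off_of_best hcV (hfam.best A hA)) i
  have h0 := (lev_isLev (S : Subgroup G) (n + 1)).norm (S : Subgroup G) (NO3S.Level.lev_le _ _) le_rfl
  have h1 := mv_blocks B b (NO3S.Level.lev_le _ _) (le_normalizer.trans h0)
    hfix (fun P hP hle => (MinSimple.VModule.le_normalizer_o2 P).trans
      ((lev_isLev (S : Subgroup G) (n + 1)).norm (o2 P) hle (hP.isLoc.o2_le S))) hn i
  by_contra hcon
  push Not at hcon
  refine h1 (sup_le (hC.trans (centralizer_le (b.NV i))) (sSup_le fun A hA => hcon A ?_))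
  rw [← bo_eq]
  exact hA

/-- **The level data, stage `-1`.** -/
theorem lvQ_neg (hj : ¬ jj (S : Subgroup G) ≤ centralizer (Wd (S : Subgroup G) : Set G)) (hne : Nonempty ι) :
    LvQ S (MZ (S : Subgroup G)) (Wd (S : Subgroup G)) N
      (zc (jj ((S : Subgroup G) ⊓ centralizer (Wd (S : Subgroup G) : Set G)))) ⊤ (jj (S : Subgroup G))
      (AA (S : Subgroup G)) where
  ML := le_top
  fam := BFr.Bd.bfam_AA _ (BFr.zc_elem _) fun x hx => (jj_le _ (mem_zc.1 hx).1).1
  elX := BFr.zc_elem _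
  VX := wd_le_X B
  XS := fun x hx => (jj_le _ (mem_zc.1 hx).1).1
  MX g hg x hx := (mem_normalizer_iff.1 (NO3S.Level.normalizer_le_zc _ (normalizer_le_jj _ (BFr.MZ_norm_Q B hg))) x).1 hx
  AJ A hA := le_jj hA
  JS := jj_le _
  Jg := by
    rw [jj_eq]
    exact le_sup_left
  mv := by
    obtain ⟨i⟩ := hne
    exact ⟨i, mv_neg B b hj i⟩

/-- **The level data, stage `n`.** -/
theorem lvQ_lev {n : ℕ} (hX : Wd (S : Subgroup G) ≤ zc (lev (S : Subgroup G) n))
    (hn : ¬ lev (S : Subgroup G) (n + 1) ≤ centralizer (Wd (S : Subgroup G) : Set G)) (hne : Nonempty ι) :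
    LvQ S (MZ (S : Subgroup G)) (Wd (S : Subgroup G)) N (zc (lev (S : Subgroup G) n))
      (normalizer (zc (lev (S : Subgroup G) n) : Set G)) (lev (S : Subgroup G) (n + 1))
      (bo (S : Subgroup G) (zc (lev (S : Subgroup G) n))) where
  ML := (BFr.MZ_norm_lev B hX).trans (NO3S.Level.normalizer_le_zc _)
  fam := bo_fam _ _
  elX := BFr.zc_elem _
  VX := hX
  XS := fun x hx => NO3S.Level.lev_le _ _ (mem_zc.1 hx).1
  MX g hg x hx := (mem_normalizer_iff.1 (NO3S.Level.normalizer_le_zc _ (BFr.MZ_norm_lev B hX hg)) x).1 hx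
  AJ A hA := NO3S.Level.BO.le_nxt (by rw [bo_eq]; exact hA)
  JS := NO3S.Level.lev_le _ _
  Jg := by
    show nxt _ _ ≤ _
    rw [nxt, bo_eq]
    exact sup_le ((inf_le_inf_left _ (centralizer_le hX)).trans le_sup_right) le_sup_left
  mv := by
    obtain ⟨i⟩ := hne
    exact ⟨i, mv_lev B b hX hn i⟩

end box

end Cfsg.Agent.Omega.NOThreeL.RRed.QFr
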