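import Cfsg.Agent.Omega.NOThreeL.RRed.QFr.Def
import Cfsg.Agent.Omega.NOThreeL.RRed.Semi

/-!
# NO-3L, box R, natural blocks: the coordinates `CorA`, `SLA` from `NatBlk`

* **`corA_of`** : `NatBlk S D N l F e`, the elements of `S` normalising `l` normalise `N` and `D`; then suitable rescaled
  coordinates satisfy `CorA` and `SLA`.
-/

set_option autoImplicit false
set_option linter.unusedSectionVars false

namespace Cfsg.Agent.Omega.NOThreeL.RRed.QFr

open Subgroup Cfsg Cfsg.Agent.ZN Cfsg.Agent.ZN.ChoiceBase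
open Cfsg.Agent.Omega.OM.FourF (Act)
open Cfsg.Agent.Omega.OM.SwapV.Q (CorA)
open Cfsg.Agent.Omega.NOThreeL.RRed.WideTree (NatBlk)
open Cfsg.Agent.Omega.NOThreeL.RRed.Semi Cfsg.Agent.Omega.NOThreeL.RRed.GOne

universe u

variable {G : Type u} [Group G]

theorem corA_of [Finite G] {S D N l : Subgroup G} {F : Type} [Field F] [Finite F] [CharP F 2] {e : G → Fin 2 → F}
    (hS : IsPGroup 2 S) (h : NatBlk S D N l F e) (hDN : D ≤ normalizer (N : Set G))
    (hsD : ∀ s ∈ S, cj s l = l → s ∈ normalizer (N : Set G) ∧ ∀ d ∈ D, s * d * s⁻¹ ∈ D) :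
    ∃ e' : G → F × F, CorA F S N l e' ∧ SLA F D N e' := by
  classical
  choose w hwN hwe using h.sur
  have hinj : ∀ v ∈ N, ∀ v' ∈ N, e v = e v' → v = v' := fun v hv v' hv' he => natblk_inj h hv hv' he
  -- the stabiliser of the line
  let T : Subgroup G :=
    { carrier := {s | s ∈ S ∧ cj s l = l}
      mul_mem' := by
        rintro a b ⟨ha, ha'⟩ ⟨hb, hb'⟩
        exact ⟨mul_mem ha hb, by rw [← cj_cj, hb', ha']⟩
      one_mem' := ⟨one_mem _, cj_one _⟩
      inv_mem' := by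
        rintro a ⟨ha, ha'⟩
        exact ⟨inv_mem ha, by nth_rw 1 [← ha']; rw [cj_cj, inv_mul_cancel, cj_one]⟩ }
  have hT : IsPGroup 2 T := hS.to_le fun s hs => hs.1
  have hTN : ∀ t ∈ T, ∀ v ∈ N, t * v * t⁻¹ ∈ N := fun t ht v hv =>
    (mem_normalizer_iff.1 (hsD t ht.1 ht.2).1 v).1 hv
  have hsemi : ∀ t ∈ T, ∃ (σ : F ≃+* F) (a b d : F), ∀ v ∈ N,
      e (t * v * t⁻¹) = ![a * σ (e v 0) + b * σ (e v 1), d * σ (e v 1)] := fun t ht =>
    natblk_semi' h (hsD t ht.1 ht.2).1 (hsD t ht.1 ht.2).2 hDN fun v hv => by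
      have h1 : t * v * t⁻¹ ∈ cj t l := ⟨v, hv, rfl⟩
      rwa [ht.2] at h1
  -- fixed vectors
  have hf0 : ∃ y : Fin 1 → F, y ≠ 0 ∧ ∀ s : T, (fun _ : Fin 1 => e ((s : G) * w ![y 0, 0] * (s : G)⁻¹) 0) = y := by
    refine OM.YThm.exists_fix_vec (F := F) (S₀ := T) one_pos hT
      (fun s y => fun _ : Fin 1 => e ((s : G) * w ![y 0, 0] * (s : G)⁻¹) 0) (fun y => ?_) (fun s t y => ?_) fun s => ?_
    · funext i
      show e (((1 : T) : G) * w ![y 0, 0] * ((1 : T) : G)⁻¹) 0 = y i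
      rw [OneMemClass.coe_one, one_mul, inv_one, mul_one, hwe, Subsingleton.elim i 0]
      rfl
    · funext i
      show e (((s * t : T) : G) * w ![y 0, 0] * ((s * t : T) : G)⁻¹) 0 =
        e ((s : G) * w ![e ((t : G) * w ![y 0, 0] * (t : G)⁻¹) 0, 0] * (s : G)⁻¹) 0
      have h1 : w ![e ((t : G) * w ![y 0, 0] * (t : G)⁻¹) 0, 0] = (t : G) * w ![y 0, 0] * (t : G)⁻¹ := by
        refine hinj _ (hwN _) _ (hTN t t.2 _ (hwN _)) ?_
        obtain ⟨σ, a, b, d, hσ⟩ := hsemi t t.2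
        rw [hwe, hσ _ (hwN _), hwe]
        funext k
        fin_cases k <;> simp
      have e1 : ((s * t : T) : G) * w ![y 0, 0] * ((s * t : T) : G)⁻¹ =
          (s : G) * ((t : G) * w ![y 0, 0] * (t : G)⁻¹) * (s : G)⁻¹ := by
        rw [Subgroup.coe_mul]; group
      rw [h1, e1]
    · funext i
      have h1 : w ![(0 : Fin 1 → F) 0, 0] = 1 := by
        refine hinj _ (hwN _) 1 (one_mem _) ?_
        rw [hwe]
        have h2 := h.mul 1 (one_mem _) 1 (one_mem _)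
        rw [mul_one] at h2
        rw [left_eq_add.1 h2]
        funext k
        fin_cases k <;> rfl
      show e ((s : G) * w ![(0 : Fin 1 → F) 0, 0] * (s : G)⁻¹) 0 = (0 : Fin 1 → F) i
      have h2 := h.mul 1 (one_mem _) 1 (one_mem _)
      rw [mul_one] at h2
      rw [h1, mul_one, mul_inv_cancel, left_eq_add.1 h2]
      rfl
  have hf1 : ∃ y : Fin 1 → F, y ≠ 0 ∧ ∀ s : T, (fun _ : Fin 1 => e ((s : G) * w ![0, y 0] * (s : G)⁻¹) 1) = y := by
    refine OM.YThm.exists_fix_vec (F := F) (S₀ := T) one_pos hT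
      (fun s y => fun _ : Fin 1 => e ((s : G) * w ![0, y 0] * (s : G)⁻¹) 1) (fun y => ?_) (fun s t y => ?_) fun s => ?_
    · funext i
      show e (((1 : T) : G) * w ![0, y 0] * ((1 : T) : G)⁻¹) 1 = y i
      rw [OneMemClass.coe_one, one_mul, inv_one, mul_one, hwe, Subsingleton.elim i 0]
      rfl
    · funext i
      show e (((s * t : T) : G) * w ![0, y 0] * ((s * t : T) : G)⁻¹) 1 =
        e ((s : G) * w ![0, e ((t : G) * w ![0, y 0] * (t : G)⁻¹) 1] * (s : G)⁻¹) 1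
      obtain ⟨σ, a, b, d, hσ⟩ := hsemi s s.2
      have e1 : ((s * t : T) : G) * w ![0, y 0] * ((s * t : T) : G)⁻¹ =
          (s : G) * ((t : G) * w ![0, y 0] * (t : G)⁻¹) * (s : G)⁻¹ := by
        rw [Subgroup.coe_mul]; group
      rw [e1, hσ _ (hTN t t.2 _ (hwN _)), hσ _ (hwN _), hwe]
      simp
    · funext i
      have h1 : w ![0, (0 : Fin 1 → F) 0] = 1 := by
        refine hinj _ (hwN _) 1 (one_mem _) ?_
        rw [hwe]
        have h2 := h.mul 1 (one_mem _) 1 (one_mem _)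
        rw [mul_one] at h2
        rw [left_eq_add.1 h2]
        funext k
        fin_cases k <;> rfl
      show e ((s : G) * w ![0, (0 : Fin 1 → F) 0] * (s : G)⁻¹) 1 = (0 : Fin 1 → F) i
      have h2 := h.mul 1 (one_mem _) 1 (one_mem _)
      rw [mul_one] at h2
      rw [h1, mul_one, mul_inv_cancel, left_eq_add.1 h2]
      rfl
  obtain ⟨y0, hy0, hfix0⟩ := hf0
  obtain ⟨y1, hy1, hfix1⟩ := hf1
  set z₀ := y0 0 with hz₀
  set f₀ := y1 0 with hf₀
  have hz : z₀ ≠ 0 := fun h0 => hy0 (funext fun i => by rw [Subsingleton.elim i 0]; exact h0)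
  have hf : f₀ ≠ 0 := fun h0 => hy1 (funext fun i => by rw [Subsingleton.elim i 0]; exact h0)
  refine ⟨fun v => (z₀⁻¹ * e v 0, f₀⁻¹ * e v 1), ⟨fun v hv v' hv' => ?_, fun v hv v' hv' he => ?_, fun p => ?_,
    fun v => ?_, fun t ht htl => ?_⟩, ⟨fun g hg v hv => (mem_normalizer_iff.1 (hDN hg) v).1 hv, fun g hg => ?_,
    fun a b c d hd => ?_⟩⟩
  · rw [h.mul v hv v' hv']
    ext
    · simp only [Pi.add_apply, Prod.fst_add]; ring
    · simp only [Pi.add_apply, Prod.snd_add]; ring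
  · refine hinj v hv v' hv' ?_
    funext k
    fin_cases k
    · exact mul_left_cancel₀ (inv_ne_zero hz) (congrArg Prod.fst he)
    · exact mul_left_cancel₀ (inv_ne_zero hf) (congrArg Prod.snd he)
  · refine ⟨w ![z₀ * p.1, f₀ * p.2], hwN _, ?_⟩
    rw [hwe]
    ext
    · exact inv_mul_cancel_left₀ hz _
    · exact inv_mul_cancel_left₀ hf _
  · rw [h.line]
    refine and_congr_right fun _ => ?_
    constructor
    · intro h1
      show f₀⁻¹ * e v 1 = 0
      rw [h1, mul_zero]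
    · intro h1
      exact (mul_eq_zero.1 h1).resolve_left (inv_ne_zero hf)
  · have htT : t ∈ T := ⟨ht, htl⟩
    obtain ⟨σ, a, b, d, hσ⟩ := hsemi t htT
    have h1 : a * σ z₀ = z₀ := by
      have h2 := congrFun (hfix0 ⟨t, htT⟩) 0
      have h3 : e (t * w ![z₀, 0] * t⁻¹) 0 = z₀ := h2
      rw [hσ _ (hwN _), hwe] at h3
      simpa using h3
    have h4 : d * σ f₀ = f₀ := by
      have h2 := congrFun (hfix1 ⟨t, htT⟩) 0
      have h3 : e (t * w ![0, f₀] * t⁻¹) 1 = f₀ := h2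
      rw [hσ _ (hwN _), hwe] at h3
      simpa using h3
    refine ⟨σ, z₀⁻¹ * b * σ f₀, fun v hv => ?_⟩
    show (z₀⁻¹ * e (t * v * t⁻¹) 0, f₀⁻¹ * e (t * v * t⁻¹) 1) = _
    rw [hσ v hv]
    have hsz : σ z₀ ≠ 0 := fun h0 => hz ((map_eq_zero σ).1 h0)
    have hsf : σ f₀ ≠ 0 := fun h0 => hf ((map_eq_zero σ).1 h0)
    ext
    · simp only [Matrix.cons_val_zero, map_mul, map_inv₀]
      field_simp
      linear_combination (σ (e v 0)) * h1
    · show f₀⁻¹ * (d * σ (e v 1)) = σ (f₀⁻¹ * e v 1)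
      rw [map_mul, map_inv₀]
      field_simp
      linear_combination (σ (e v 1)) * h4
  · obtain ⟨A, hA⟩ := h.act g hg
    have hdet := A.2
    rw [Matrix.det_fin_two] at hdet
    refine ⟨A.1 0 0, z₀⁻¹ * A.1 0 1 * f₀, f₀⁻¹ * A.1 1 0 * z₀, A.1 1 1, ?_, fun v hv => ?_⟩
    · field_simp
      linear_combination hdet
    · show (z₀⁻¹ * e (g * v * g⁻¹) 0, f₀⁻¹ * e (g * v * g⁻¹) 1) = _
      rw [hA v hv]
      ext
      · simp only [Matrix.mulVec, dotProduct, Fin.sum_univ_two]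
        field_simp
      · simp only [Matrix.mulVec, dotProduct, Fin.sum_univ_two]
        field_simp
  · obtain ⟨g, hg, hA⟩ := h.full ⟨!![a, z₀ * b * f₀⁻¹; f₀ * c * z₀⁻¹, d], by
      rw [Matrix.det_fin_two_of]
      field_simp
      linear_combination hd⟩
    refine ⟨g, hg, fun v hv => ?_⟩
    show (z₀⁻¹ * e (g * v * g⁻¹) 0, f₀⁻¹ * e (g * v * g⁻¹) 1) = _
    rw [hA v hv]
    ext
    · simp only [Matrix.mulVec, dotProduct, Fin.sum_univ_two, Matrix.of_apply, Matrix.cons_val', Matrix.cons_val_zero,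
        Matrix.cons_val_one, Matrix.cons_val_fin_one]
      field_simp
    · simp only [Matrix.mulVec, dotProduct, Fin.sum_univ_two, Matrix.of_apply, Matrix.cons_val', Matrix.cons_val_zero,
        Matrix.cons_val_one, Matrix.cons_val_fin_one]
      field_simp

end Cfsg.Agent.Omega.NOThreeL.RRed.QFr
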