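import Cfsg.Agent.Omega.NOThreeL.RRed.QFr.Asm
import Cfsg.Agent.Omega.NOThreeL.RRed.QFr.OfNBs
import Cfsg.Agent.Omega.NOThreeL.RRed.BQ.Cut
import Cfsg.Agent.Omega.NOThreeL.RRed.BFr.NlEndQ
import Cfsg.Agent.Omega.NOThreeL.RWide.Typ

/-!
# NO-3L, box R, one class of natural blocks, `q ≥ 4`: nonlocality from a level

* `NLY l` : no 2-group `≠ 1` is normalised by all `C_G(∏_{c ≠ b} l c)`;
* `nlY_bq` : `Bq` + a level (`J(S)` or `lev S (n + 1)` moves `V*`) ⟹ `NLY l`;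
* **`nlY`** : the same from `NBs` + `Src` (v5) of one class; **`nlY_or`** : `NLY l` or all levels centralise `V*`;
* `NLY.non` : the field `non` of the types `TypT` (`YY l j`); `NLY.two` : two supports.
-/

set_option autoImplicit false
set_option linter.unusedSectionVars false

namespace Cfsg.Agent.Omega.NOThreeL.RRed.QFr

open Subgroup Cfsg Cfsg.Agent.Omega.MinPar Cfsg.Agent.Omega.Frame Cfsg.Agent.ZN.ChoiceBase
open Cfsg.Agent.ZN (jj zj bau zc zl o2)
open Cfsg.Agent.Omega.NO3S.OneLine (BFam bo bo_fam)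
open Cfsg.Agent.Omega.NO3S.Level (lev)
open Cfsg.Agent.Omega.OM.SwapL (BL ZL)
open Cfsg.Agent.Omega.OM.SwapV.Q
open Cfsg.Agent.Omega.NOThreeL.RTree
open Cfsg.Agent.Omega.NOThreeL.Merge (MZ)
open Cfsg.Agent.Omega.NOThreeL.RRed.BFr.StageQ
open Cfsg.Agent.Omega.NOThreeL.RRed.WideTree (NBs Src CM)

universe u v

section defs

variable {G : Type u} [Group G] {ι : Type v}

/-- No 2-group `≠ 1` is normalised by all `C_G(∏_{c ≠ b} l c)`. -/
def NLY (l : ι → Subgroup G) : Prop := ∀ U : Subgroup G, IsPGroup 2 U →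
  (∀ b, centralizer ((⨆ c : {c : ι // c ≠ b}, l c.1 : Subgroup G) : Set G) ≤ normalizer (U : Set G)) → U = ⊥

/-- the field `non` of the types, for `F i ≤ l i` -/
theorem NLY.non {ι : Type} {l : ι → Subgroup G} (h : NLY l) {F : ι → Subgroup G} (hF : ∀ i, F i ≤ l i) :
    ∀ U : Subgroup G, IsPGroup 2 U → (∀ j, RWide.YY F j ≤ normalizer (U : Set G)) → U = ⊥ := by
  intro U h2 hU
  refine h U h2 fun b => le_trans (RWide.le_YY fun c hc => centralizer_le ?_) (hU b)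
  exact (hF c).trans (le_iSup (fun c : {c : ι // c ≠ b} => l c.1) ⟨c, hc⟩)

/-- two subgroups whose supports cover everything -/
theorem NLY.two {l : ι → Subgroup G} (h : NLY l) {R₀ R₁ : Subgroup G}
    (hc : ∀ b, R₀ ≤ (⨆ c : {c : ι // c ≠ b}, l c.1) ∨ R₁ ≤ ⨆ c : {c : ι // c ≠ b}, l c.1) {U : Subgroup G}
    (h2 : IsPGroup 2 U) (h0 : centralizer (R₀ : Set G) ≤ normalizer (U : Set G))
    (h1 : centralizer (R₁ : Set G) ≤ normalizer (U : Set G)) : U = ⊥ :=
  h U h2 fun b => (hc b).elim (fun k => (centralizer_le k).trans h0) fun k => (centralizer_le k).trans h1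

/-- transport along an equivalence -/
theorem NLY.equiv {κ : Type*} {l : ι → Subgroup G} (f : κ ≃ ι) (h : NLY fun k => l (f k)) : NLY l := by
  intro U h2 hU
  refine h U h2 fun k => ?_
  have h0 : (⨆ c : {c : ι // c ≠ f k}, l c.1) ≤ ⨆ j : {j : κ // j ≠ k}, l (f j.1) := by
    refine iSup_le fun c => ?_
    have h1 : l c.1 = l (f (f.symm c.1)) := by rw [f.apply_symm_apply]
    rw [h1]
    exact le_iSup (fun j : {j : κ // j ≠ k} => l (f j.1)) ⟨f.symm c.1, fun e => c.2 ((f.symm_apply_eq).1 e)⟩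
  exact (centralizer_le h0).trans (hU (f k))

end defs

variable {G : Type u} [Group G] [Finite G] {S : Sylow 2 G}

/-- **Nonlocality from a level, over `Bq`.** -/
theorem nlY_bq {ι : Type} [Finite ι] {N D l C : ι → Subgroup G} {q : ℕ} (B : RB S)
    (b : Bq S (MZ (S : Subgroup G)) (Wd (S : Subgroup G)) N D l C q)
    (hP : ∀ i, ∃ P, IsParS (S : Subgroup G) P ∧ N i ≤ zl (S : Subgroup G) P) (two : ∀ i : ι, ∃ j, j ≠ i)
    (lv : ¬ jj (S : Subgroup G) ≤ centralizer (Wd (S : Subgroup G) : Set G) ∨ ∃ n, Stg S n) : NLY l := by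
  intro U h2 hU
  rcases lv with hj | ⟨n, hn⟩
  · have hlv := lvQ_neg (S := S) B hj b.sup
    obtain ⟨i₀, -⟩ := hlv.mv
    have : Nonempty ι := ⟨i₀⟩
    obtain ⟨Lb, A, -, -, h⟩ := negQ_of B b hP hj
    have key : ∀ i, (⨆ c : {c : ι // c ≠ i}, l c.1) ≤ zj (S : Subgroup G) ⊓ C i := fun i =>
      iSup_le fun c => le_inf (h.fr.Z_le c.1) ((b.lN c.1).trans (b.WjC i c.1 (Ne.symm c.2)))
    have k2 : ∀ i, centralizer ((zj (S : Subgroup G) ⊓ C i : Subgroup G) : Set G) ≤ normalizer (U : Set G) :=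
      fun i => (centralizer_le (key i)).trans (hU i)
    exact BFr.NlEndQ.nl_neg B h b.q4 two h2 k2
  · have hlv := hn.lvQ (S := S) b.sup
    obtain ⟨i₀, -⟩ := hlv.mv
    have : Nonempty ι := ⟨i₀⟩
    obtain ⟨Lb, A, -, -, h⟩ := lnQ_of B b hP hn
    have key : ∀ i, (⨆ c : {c : ι // c ≠ i}, l c.1) ≤ ZL (S : Subgroup G) n ⊓ C i := fun i =>
      iSup_le fun c => le_inf (h.fr.Z_le c.1) ((b.lN c.1).trans (b.WjC i c.1 (Ne.symm c.2)))
    have k2 : ∀ i, centralizer ((ZL (S : Subgroup G) n ⊓ C i : Subgroup G) : Set G) ≤ normalizer (U : Set G) :=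
      fun i => (centralizer_le (key i)).trans (hU i)
    exact BFr.NlEndQ.nl_lev B h b.q4 h2 k2

section nbs

variable {ι : Type u} [Finite ι] {N E D l : ι → Subgroup G} {q : ℕ}

/-- **Nonlocality from a level, over the natural blocks of one class.** -/
theorem nlY (B : RB S) (h : NBs (S : Subgroup G) N E D l (fun _ => q)) (hs : Src (S : Subgroup G) N l (fun _ => q))
    (hq : 4 ≤ q) (hc : CM (S : Subgroup G) (fun _ : PUnit.{u + 1} => Wd (S : Subgroup G)))
    (two : ∀ i : ι, ∃ j, j ≠ i)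
    (lv : ¬ jj (S : Subgroup G) ≤ centralizer (Wd (S : Subgroup G) : Set G) ∨ ∃ n, Stg S n) : NLY l := by
  let f : Fin (Nat.card ι) ≃ ι := (Finite.equivFin ι).symm
  refine NLY.equiv f (nlY_bq B (OfNBs.bq_of B h hs hq hc f) (fun i => ?_) (fun i => ?_) lv)
  · obtain ⟨P, hP, F, _, _, _, k, -, M, hb, -, ⟨j, e, -, -⟩, -⟩ := hs.mov (f i)
    exact ⟨P, hP.1, by rw [e]; exact NO3S.KeyRad.blk_le hb j⟩
  · obtain ⟨j, hj⟩ := two (f i)
    exact ⟨f.symm j, fun e => hj (by rw [← e, f.apply_symm_apply])⟩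

/-- **Nonlocality, or all standard levels centralise `V*`.** -/
theorem nlY_or (B : RB S) (h : NBs (S : Subgroup G) N E D l (fun _ => q)) (hs : Src (S : Subgroup G) N l (fun _ => q))
    (hq : 4 ≤ q) (hc : CM (S : Subgroup G) (fun _ : PUnit.{u + 1} => Wd (S : Subgroup G)))
    (two : ∀ i : ι, ∃ j, j ≠ i) :
    NLY l ∨ jj (S : Subgroup G) ≤ centralizer (Wd (S : Subgroup G) : Set G) ∧
      ∀ n, lev (S : Subgroup G) n ≤ centralizer (Wd (S : Subgroup G) : Set G) := by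
  rcases exists_stg (S := S) with h1 | h1 | h1
  · exact Or.inl (nlY B h hs hq hc two (Or.inl h1))
  · exact Or.inl (nlY B h hs hq hc two (Or.inr h1))
  · exact Or.inr ⟨h1 0, h1⟩

end nbs

end Cfsg.Agent.Omega.NOThreeL.RRed.QFr
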