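import Cfsg.Agent.Omega.NOThreeL.RRed.QFr.Def

/-!
# NO-3L, box R, natural blocks, `q ≥ 4` : `Z_J = ∏ l i`, `B = C_S(Z_J)`

* `CorA.up_of`, `CorA.full_of` : a subgroup of `S` centralising the line acts by `(x + m y, y)`, all `m`;
* `Lq` : `Bq`, `LvQ` and a member of `AA` acting only on `N i`, for every `i`;
* `Lq.mem_ZJ_iff` : `v ∈ Z_J` iff all components lie in the lines; `Lq.B_act`, `Lq.B_full` : `B` acts on `N i` as all
  `(x + m y, y)`; `Lq.syl_B` : `B` is a Sylow 2-subgroup of `C_M(Z_J)`.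
-/

set_option autoImplicit false
set_option linter.unusedSectionVars false

namespace Cfsg.Agent.Omega.OM.SwapV.Q

open Subgroup Cfsg Cfsg.Agent.ZN.ChoiceBase
open Cfsg.Agent.Omega.OM.FourF (Act)

universe u

variable {G : Type u} [Group G] {F : Type} [Field F] {S W Z : Subgroup G} {e : G → F × F}

theorem cj_eq_of_comm {t : G} {Z : Subgroup G} (h : ∀ z ∈ Z, t * z = z * t) : cj t Z = Z := by
  refine cj_eq_of_mem_normalizer (mem_normalizer_iff.2 fun x => ?_)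
  constructor
  · intro hx
    rw [h x hx]
    simpa using hx
  · intro hx
    have h1 := h _ hx
    have h2 : t * x * t⁻¹ = x := by
      have h3 : t * (t * x * t⁻¹) = t * x := by rw [h1]; group
      exact mul_left_cancel h3
    rwa [h2] at hx

/-- an element of `S` centralising the line acts as `(x + m y, y)` -/
theorem CorA.up_of (c : CorA F S W Z e) {t : G} (ht : t ∈ S) (hc : ∀ z ∈ Z, t * z = z * t) :
    ∃ m : F, Act W e t fun p => (p.1 + m * p.2, p.2) := by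
  obtain ⟨s, m, hs⟩ := c.act t ht (cj_eq_of_comm hc)
  have hs1 : ∀ x, s x = x := by
    intro x
    obtain ⟨y, hy, hye⟩ := c.surj (x, 0)
    have hyZ : y ∈ Z := (c.memZ y).2 ⟨hy, by rw [hye]⟩
    have h1 := hs y hy
    have h2 : t * y * t⁻¹ = y := by rw [hc y hyZ]; group
    rw [h2, hye] at h1
    have h3 := congrArg Prod.fst h1
    simp only [map_zero, mul_zero, add_zero] at h3
    exact h3.symm
  refine ⟨m, fun w hw => ?_⟩
  rw [hs w hw]
  simp only [hs1]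

/-- `|A : C_A(W)| ≥ |F|` : all `m` occur -/
theorem CorA.full_of [Finite G] [Finite F] (c : CorA F S W Z e) {A : Subgroup G} (hA : A ≤ S)
    (hn : ∀ a ∈ A, ∀ w ∈ W, a * w * a⁻¹ ∈ W) (hc : ∀ a ∈ A, ∀ z ∈ Z, a * z = z * a)
    (hq : Nat.card F * Nat.card ↥(A ⊓ centralizer (W : Set G)) ≤ Nat.card A) (m : F) :
    ∃ a ∈ A, Act W e a fun p => (p.1 + m * p.2, p.2) := by
  classical
  have h1 : ∀ a : A, ∃ m : F, Act W e a fun p => (p.1 + m * p.2, p.2) := fun a => c.up_of (hA a.2) (hc a a.2)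
  choose f hf using h1
  obtain ⟨v, hv, hve⟩ := c.surj (0, 1)
  have hfv : ∀ a : A, (e ((a : G) * v * (a : G)⁻¹)).1 = f a := by
    intro a
    rw [hf a v hv, hve]
    simp
  have hadd : ∀ a b : A, f (a * b) = f a + f b := by
    intro a b
    rw [← hfv (a * b)]
    have e1 : ((a * b : A) : G) * v * ((a * b : A) : G)⁻¹ = (a : G) * ((b : G) * v * (b : G)⁻¹) * (a : G)⁻¹ := by
      rw [Subgroup.coe_mul]; group
    rw [e1, hf a _ (hn b b.2 v hv), hf b v hv, hve]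
    simp [add_comm]
  let φ : A →* Multiplicative F := MonoidHom.mk' (fun a => Multiplicative.ofAdd (f a)) (by
    intro a b
    show Multiplicative.ofAdd (f (a * b)) = _
    rw [hadd a b]
    rfl)
  have hker : Nat.card φ.ker ≤ Nat.card ↥(A ⊓ centralizer (W : Set G)) := by
    refine Nat.card_le_card_of_injective (fun a : φ.ker => (⟨(a.1 : G), a.1.2, ?_⟩ : ↥(A ⊓ centralizer (W : Set G)))) ?_
    · refine mem_centralizer_iff.2 fun w hw => ?_
      have h0 : f a.1 = 0 := congrArg Multiplicative.toAdd (MonoidHom.mem_ker.1 a.2)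
      have h2 := hf a.1 w hw
      rw [h0] at h2
      simp only [zero_mul, add_zero] at h2
      have h3 : (a.1 : G) * w * (a.1 : G)⁻¹ = w := c.inj _ (hn a.1 a.1.2 w hw) w hw h2
      exact (mul_inv_eq_iff_eq_mul.1 h3).symm
    · intro x y hxy
      have h0 : (x.1 : G) = y.1 := congrArg (fun t : ↥(A ⊓ centralizer (W : Set G)) => (t : G)) hxy
      exact Subtype.ext (Subtype.ext h0)
  have hmul : Nat.card φ.ker * Nat.card φ.range = Nat.card A := by
    rw [← Subgroup.index_ker, Subgroup.card_mul_index]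
  have hp : 0 < Nat.card ↥(A ⊓ centralizer (W : Set G)) := Nat.card_pos
  have hr : Nat.card F ≤ Nat.card φ.range := by
    refine Nat.le_of_mul_le_mul_left ?_ hp
    calc Nat.card ↥(A ⊓ centralizer (W : Set G)) * Nat.card F
        = Nat.card F * Nat.card ↥(A ⊓ centralizer (W : Set G)) := by ring
      _ ≤ Nat.card A := hq
      _ = Nat.card φ.ker * Nat.card φ.range := hmul.symm
      _ ≤ _ := Nat.mul_le_mul_right _ hker
  have htop : φ.range = ⊤ := by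
    have : Finite (Multiplicative F) := inferInstanceAs (Finite F)
    refine Subgroup.eq_top_of_card_eq _ (le_antisymm (Subgroup.card_le_card_group _) ?_)
    have e1 : Nat.card (Multiplicative F) = Nat.card F := rfl
    rw [e1]
    exact hr
  obtain ⟨a, ha⟩ : Multiplicative.ofAdd m ∈ φ.range := by rw [htop]; exact mem_top _
  have h0 : f a = m := congrArg Multiplicative.toAdd ha
  exact ⟨a, a.2, h0 ▸ hf a⟩

/-- fixed points of an `(x + m y, y)`, `m ≠ 0` -/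
theorem CorA.mem_of_fix (c : CorA F S W Z e) {t : G} {m : F} (hm : m ≠ 0)
    (h : Act W e t fun p => (p.1 + m * p.2, p.2)) {w : G} (hw : w ∈ W) (hf : t * w = w * t) : w ∈ Z := by
  have h1 := h w hw
  have h2 : t * w * t⁻¹ = w := by rw [hf]; group
  rw [h2] at h1
  have h3 := congrArg Prod.fst h1
  simp only at h3
  have h4 : m * (e w).2 = 0 := left_eq_add.1 h3
  exact (c.memZ w).2 ⟨hw, (mul_eq_zero.1 h4).resolve_left hm⟩

/-- an `(x + m y, y)` centralises the line -/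
theorem CorA.fix_of (c : CorA F S W Z e) {t : G} {m : F} (hn : ∀ w ∈ W, t * w * t⁻¹ ∈ W)
    (h : Act W e t fun p => (p.1 + m * p.2, p.2)) {w : G} (hw : w ∈ Z) : t * w = w * t := by
  obtain ⟨h1, h2⟩ := (c.memZ w).1 hw
  have h3 := h w h1
  have h4 : t * w * t⁻¹ = w := by
    refine c.inj _ (hn w h1) w h1 ?_
    rw [h3]
    ext
    · simp [h2]
    · rfl
  exact mul_inv_eq_iff_eq_mul.1 h4

end Cfsg.Agent.Omega.OM.SwapV.Q

namespace Cfsg.Agent.Omega.NOThreeL.RRed.QFr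

open Subgroup Cfsg Cfsg.Agent.ZN Cfsg.Agent.ZN.ChoiceBase
open Cfsg.Agent.Omega.SQ1.Bau (mem_sup_comm card_sup_comm elem_comm elem_sq mem_sup_norm)
open Cfsg.Agent.Omega.OM.Lev.Uni (Best)
open Cfsg.Agent.Omega.FFThm (ElemM)
open Cfsg.Agent.Omega.NO3S.OneLine (BFam)
open Cfsg.Agent.Omega.OM.FourF (Act)
open Cfsg.Agent.Omega.OM.SwapV.Q (CorA cj_eq_of_comm)

universe u

variable {G : Type u} [Group G]

/-- the blocks, the level and the members of `AA` acting on one block only -/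
structure Lq {ι : Type} (S : Sylow 2 G) (M V : Subgroup G) (N D l C : ι → Subgroup G) (q : ℕ) (X L J : Subgroup G)
    (AA : Set (Subgroup G)) : Prop where
  b : Bq S M V N D l C q
  lv : LvQ S M V N X L J AA
  ex : ∀ i, ∃ A ∈ AA, ¬ A ≤ centralizer (N i : Set G) ∧ ∀ j, j ≠ i → A ≤ centralizer (N j : Set G)

namespace Lq

variable {ι : Type} {S : Sylow 2 G} {M V : Subgroup G} {N D l C : ι → Subgroup G} {q : ℕ} {X L J : Subgroup G}
  {AA : Set (Subgroup G)} (h : Lq S M V N D l C q X L J AA)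
include h

theorem Xc : ∀ x ∈ X, ∀ y ∈ X, x * y = y * x := elem_comm h.lv.elX

theorem AS {A : Subgroup G} (hA : A ∈ AA) : A ≤ (S : Subgroup G) := h.lv.fam.le A hA

variable [Finite G]

/-- a member of `AA` acts trivially or as a full root group -/
theorem root {A : Subgroup G} (hA : A ∈ AA) (i : ι) : A ≤ centralizer (N i : Set G) ∨
    ((∀ a ∈ A, ∀ z ∈ l i, a * z = z * a) ∧ (∀ a ∈ A, ∀ v ∈ N i, a * v * a⁻¹ * v⁻¹ ∈ l i) ∧
      q * Nat.card ↥(A ⊓ centralizer (N i : Set G)) ≤ Nat.card A) := by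
  have hcl : centralizer (X : Set G) ≤ centralizer (V : Set G) := centralizer_le h.lv.VX
  refine h.b.off A (h.AS hA) ⟨fun a ha => hcl ((h.lv.fam.elem A hA).sq a ha), fun a ha b hb =>
    hcl ((h.lv.fam.elem A hA).comm a ha b hb)⟩ (fun Y hY => ?_) i
  exact BFr.best_ineq h.Xc (h.lv.fam.best A hA) (hY.trans h.lv.VX)

/-- a member of `AA` normalises the blocks -/
theorem A_norm {A : Subgroup G} (hA : A ∈ AA) (i : ι) {a : G} (ha : a ∈ A) : ∀ v ∈ N i, a * v * a⁻¹ ∈ N i := by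
  intro v hv
  rcases h.root hA i with h1 | ⟨-, h1, -⟩
  · have h2 := mem_centralizer_iff.1 (h1 ha) v hv
    rw [← h2]
    simpa using hv
  · have h2 := mul_mem (h.b.lN i (h1 a ha v hv)) hv
    simpa using h2

theorem A_cent_l {A : Subgroup G} (hA : A ∈ AA) (i : ι) {a : G} (ha : a ∈ A) : ∀ v ∈ l i, a * v = v * a := by
  intro v hv
  rcases h.root hA i with h1 | ⟨h1, -, -⟩
  · exact (mem_centralizer_iff.1 (h1 ha) v (h.b.lN i hv)).symm
  · exact h1 a ha v hv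

omit h [Finite G] in
/-- an element of `M` which maps `N i` into itself normalises `N i` and `C i` -/
theorem nC (b : Bq S M V N D l C q) [Finite G] {g : G} (hg : g ∈ M) {i : ι} (hn : ∀ v ∈ N i, g * v * g⁻¹ ∈ N i) :
    cj g (N i) = N i ∧ cj g (C i) = C i := by
  have h1 : cj g (N i) = N i := by
    refine Subgroup.eq_of_le_of_card_ge ?_ (by rw [card_cj])
    rintro _ ⟨v, hv, rfl⟩
    exact hn v hv
  exact ⟨h1, b.cj_C hg h1⟩

omit h in
/-- an element normalising all blocks and centralising the components of `v` centralises `v` -/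
theorem cent_of (b : Bq S M V N D l C q) {g v : G} (hg : g ∈ M) (hv : v ∈ V)
    (hn : ∀ i, ∃ w ∈ N i, ∃ c ∈ C i, v = w * c ∧ g * w = w * g ∧ g * c * g⁻¹ ∈ C i) : g * v = v * g := by
  have h1 : g * v * g⁻¹ * v⁻¹ = 1 := by
    refine b.C0 _ (mul_mem (b.MV g hg v hv) (inv_mem hv)) fun i => ?_
    obtain ⟨w, hw, c, hc, rfl, h2, h3⟩ := hn i
    have e1 : g * (w * c) * g⁻¹ * (w * c)⁻¹ = w * (g * c * g⁻¹ * c⁻¹) * w⁻¹ := by
      calc g * (w * c) * g⁻¹ * (w * c)⁻¹ = (g * w) * c * g⁻¹ * c⁻¹ * w⁻¹ := by group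
        _ = (w * g) * c * g⁻¹ * c⁻¹ * w⁻¹ := by rw [h2]
        _ = _ := by group
    have h4 : g * c * g⁻¹ * c⁻¹ ∈ C i := mul_mem h3 (inv_mem hc)
    have e2 : w * (g * c * g⁻¹ * c⁻¹) * w⁻¹ = g * c * g⁻¹ * c⁻¹ := by
      rw [b.Vc (b.NV i hw) (b.CV i h4)]; group
    rw [e1, e2]
    exact h4
  exact mul_inv_eq_iff_eq_mul.1 (mul_inv_eq_one.1 h1)

omit h [Finite G] in
theorem mem_ZJ {v : G} : v ∈ ZJ V J ↔ v ∈ V ∧ ∀ y ∈ J, y * v = v * y := by
  rw [ZJ, BFr.ZJ, mem_inf, mem_centralizer_iff]; rfl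

omit h [Finite G] in
theorem mem_BB {S V J : Subgroup G} {x : G} : x ∈ BB S V J ↔ x ∈ S ∧ ∀ z ∈ ZJ V J, x * z = z * x := by
  rw [BB, BFr.BB, mem_inf, mem_centralizer_iff]
  exact and_congr_right fun _ => ⟨fun h z hz => (h z hz).symm, fun h z hz => (h z hz).symm⟩

/-- the member acting on `N i` only, in coordinates -/
theorem exists_A (i : ι) : ∃ A ∈ AA, (∀ j, j ≠ i → A ≤ centralizer (N j : Set G)) ∧
    (∀ a ∈ A, ∀ c ∈ C i, a * c = c * a) ∧ (∀ a ∈ A, ∀ z ∈ l i, a * z = z * a) ∧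
    (∀ a ∈ A, ∀ v ∈ N i, a * v * a⁻¹ ∈ N i) ∧ q * Nat.card ↥(A ⊓ centralizer (N i : Set G)) ≤ Nat.card A := by
  obtain ⟨A, hA, h1, h2⟩ := h.ex i
  rcases h.root hA i with h3 | ⟨h3, h4, h5⟩
  · exact absurd h3 h1
  refine ⟨A, hA, h2, fun a ha c hc => ?_, h3, fun a ha => h.A_norm hA i ha, h5⟩
  exact h.b.cent_C (fun j hj v hv => (mem_centralizer_iff.1 (h2 j hj ha) v hv).symm) c hc

/-- `C_(N i)(A i) = l i` -/
theorem fix_l {A : Subgroup G} (hA : A ∈ AA) {i : ι} (h3 : ∀ a ∈ A, ∀ z ∈ l i, a * z = z * a)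
    (h4 : ∀ a ∈ A, ∀ v ∈ N i, a * v * a⁻¹ ∈ N i)
    (h5 : q * Nat.card ↥(A ⊓ centralizer (N i : Set G)) ≤ Nat.card A) {w : G} (hw : w ∈ N i)
    (hf : ∀ a ∈ A, a * w = w * a) : w ∈ l i := by
  obtain ⟨F, _, _, _, e, hF, c, -⟩ := h.b.nat i
  obtain ⟨a, ha, hm⟩ := c.full_of (h.AS hA) h4 h3 (by rw [hF]; exact h5) 1
  exact c.mem_of_fix one_ne_zero hm hw (hf a ha)

/-- **`Z_J` is the product of the lines.** -/
theorem mem_ZJ_iff {v : G} (hv : v ∈ V) :
    v ∈ ZJ V J ↔ ∀ i, ∃ w ∈ l i, ∃ c ∈ C i, v = w * c := by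
  constructor
  · intro hz i
    obtain ⟨w, hw, c, hc, e⟩ := h.b.WC i v hv
    obtain ⟨A, hA, -, h2, h3, h4, h5⟩ := h.exists_A i
    refine ⟨w, h.fix_l hA h3 h4 h5 hw fun a ha => ?_, c, hc, e⟩
    have h6 := (mem_ZJ.1 hz).2 a (h.lv.AJ A hA ha)
    have h7 := h2 a ha c hc
    have e1 : w = v * c⁻¹ := by rw [e]; group
    have h8 : Commute a (v * c⁻¹) := (show Commute a v from h6).mul_right (show Commute a c from h7).inv_right
    rw [e1]
    exact h8.eq
  · intro hl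
    have key : ∀ A ∈ AA, A ≤ centralizer ({v} : Set G) := by
      intro A hA a ha
      refine mem_centralizer_singleton_iff.2 ?_
      refine cent_of h.b (h.b.SM (h.AS hA ha)) hv fun i => ?_
      obtain ⟨w, hw, c, hc, e⟩ := hl i
      have h1 := nC h.b (h.b.SM (h.AS hA ha)) (h.A_norm hA i ha)
      refine ⟨w, h.b.lN i hw, c, hc, e, h.A_cent_l hA i ha w hw, ?_⟩
      rw [← h1.2]
      exact ⟨c, hc, rfl⟩
    refine mem_ZJ.2 ⟨hv, fun y hy => ?_⟩
    have h1 : J ≤ centralizer ({v} : Set G) := h.lv.Jg.trans (sup_le (sSup_le key) fun x hx =>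
      mem_centralizer_singleton_iff.2 (mem_centralizer_iff.1 hx.2 v hv).symm)
    exact mem_centralizer_singleton_iff.1 (h1 hy)

theorem l_ZJ (i : ι) : l i ≤ ZJ V J := by
  intro z hz
  have hzN := h.b.lN i hz
  refine (h.mem_ZJ_iff (h.b.NV i hzN)).2 fun j => ?_
  by_cases hj : j = i
  · subst hj
    exact ⟨z, hz, 1, one_mem _, (mul_one z).symm⟩
  · exact ⟨1, one_mem _, z, h.b.WjC j i hj hzN, (one_mul z).symm⟩

/-- components of elements of `Z_J` -/
theorem split_ZJ (i : ι) {z : G} (hz : z ∈ ZJ V J) : ∃ w ∈ l i, ∃ c ∈ C i, c ∈ ZJ V J ∧ z = w * c := by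
  obtain ⟨w, hw, c, hc, e⟩ := (h.mem_ZJ_iff (mem_ZJ.1 hz).1).1 hz i
  refine ⟨w, hw, c, hc, ?_, e⟩
  have e1 : c = w⁻¹ * z := by rw [e]; group
  rw [e1]
  exact mul_mem (inv_mem (h.l_ZJ i hw)) hz

theorem V_le_B : V ≤ BB (S : Subgroup G) V J := fun _ hv =>
  mem_BB.2 ⟨h.b.VS hv, fun _ hz => h.b.Vc hv (mem_ZJ.1 hz).1⟩

theorem J_le_B : J ≤ BB (S : Subgroup G) V J := fun a ha =>
  mem_BB.2 ⟨h.lv.JS ha, fun _ hz => (mem_ZJ.1 hz).2 a ha⟩

theorem Q_le_B : (S : Subgroup G) ⊓ centralizer (V : Set G) ≤ BB (S : Subgroup G) V J := fun _ hx =>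
  mem_BB.2 ⟨hx.1, fun z hz => (mem_centralizer_iff.1 hx.2 z (mem_ZJ.1 hz).1).symm⟩

theorem B_le_M : BB (S : Subgroup G) V J ≤ M := fun _ hb => h.b.SM (mem_BB.1 hb).1

theorem B_norm {x : G} (hx : x ∈ BB (S : Subgroup G) V J) (i : ι) : cj x (N i) = N i ∧ cj x (C i) = C i := by
  have h1 : cj x (l i) = l i := cj_eq_of_comm fun z hz => (mem_BB.1 hx).2 z (h.l_ZJ i hz)
  have h2 := h.b.cj_N (mem_BB.1 hx).1 h1
  exact ⟨h2, h.b.cj_C (h.B_le_M hx) h2⟩

theorem B_mem {x : G} (hx : x ∈ BB (S : Subgroup G) V J) (i : ι) {v : G} (hv : v ∈ N i) : x * v * x⁻¹ ∈ N i := by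
  rw [← (h.B_norm hx i).1]
  exact ⟨v, hv, rfl⟩

theorem B_memC {x : G} (hx : x ∈ BB (S : Subgroup G) V J) (i : ι) {v : G} (hv : v ∈ C i) : x * v * x⁻¹ ∈ C i := by
  rw [← (h.B_norm hx i).2]
  exact ⟨v, hv, rfl⟩

theorem B_act {F : Type} [Field F] {e : G → F × F} {i : ι} (c : CorA F (S : Subgroup G) (N i) (l i) e) {x : G}
    (hx : x ∈ BB (S : Subgroup G) V J) : ∃ m : F, Act (N i) e x fun p => (p.1 + m * p.2, p.2) :=
  c.up_of (mem_BB.1 hx).1 fun z hz => (mem_BB.1 hx).2 z (h.l_ZJ i hz)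

/-- **the member of `AA` acting only on `N i` induces the full root group** -/
theorem A_full {F : Type} [Field F] [Finite F] {e : G → F × F} {i : ι} (hF : Nat.card F = q)
    (c : CorA F (S : Subgroup G) (N i) (l i) e) : ∃ A ∈ AA, (∀ j, j ≠ i → A ≤ centralizer (N j : Set G)) ∧
      ∀ m : F, ∃ a ∈ A, Act (N i) e a fun p => (p.1 + m * p.2, p.2) := by
  obtain ⟨A, hA, h1, h2, h3, h4, h5⟩ := h.exists_A i
  exact ⟨A, hA, h1, c.full_of (h.AS hA) h4 h3 (by rw [hF]; exact h5)⟩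

/-- an element of `M` which acts on every block as an element of `B` centralises `Z_J` -/
theorem cent_ZJ {m : G} (hm : m ∈ M) (hn : ∀ i, ∀ v ∈ N i, m * v * m⁻¹ ∈ N i) (hl : ∀ i, ∀ z ∈ l i, m * z = z * m)
    {z : G} (hz : z ∈ ZJ V J) : m * z = z * m := by
  refine cent_of h.b hm (mem_ZJ.1 hz).1 fun i => ?_
  obtain ⟨w, hw, c, hc, -, e⟩ := h.split_ZJ i hz
  refine ⟨w, h.b.lN i hw, c, hc, e, hl i w hw, ?_⟩
  rw [← (nC h.b hm (hn i)).2]
  exact ⟨c, hc, rfl⟩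

/-- `S` normalises `Z_J` -/
theorem S_ZJ {s : G} (hs : s ∈ (S : Subgroup G)) {z : G} (hz : z ∈ ZJ V J) : s * z * s⁻¹ ∈ ZJ V J := by
  have hzV := (mem_ZJ.1 hz).1
  refine (h.mem_ZJ_iff (h.b.MV s (h.b.SM hs) z hzV)).2 fun j => ?_
  -- the index `i` with `N i = s⁻¹ N j s`
  obtain ⟨i, h1, h2, -⟩ := h.b.permS s⁻¹ (inv_mem hs) j
  have h3 : cj s (N i) = N j := by rw [← h1, cj_cj, mul_inv_cancel, cj_one]
  have h4 : cj s (l i) = l j := h.b.cj_l hs h3
  have h5 : cj s (C i) = C j := h.b.cj_C (h.b.SM hs) h3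
  obtain ⟨w, hw, c, hc, -, e⟩ := h.split_ZJ i hz
  refine ⟨s * w * s⁻¹, ?_, s * c * s⁻¹, ?_, by rw [e]; group⟩
  · rw [← h4]; exact ⟨w, hw, rfl⟩
  · rw [← h5]; exact ⟨c, hc, rfl⟩

/-- **`B` is a Sylow 2-subgroup of `C_M(Z_J)`.** -/
theorem syl_B {T : Subgroup G} (hT : IsPGroup 2 T) (hBT : BB (S : Subgroup G) V J ≤ T)
    (hTc : ∀ t ∈ T, ∀ z ∈ ZJ V J, t * z = z * t) : T = BB (S : Subgroup G) V J := by
  have hSn : (S : Subgroup G) ≤ normalizer ((centralizer (ZJ V J : Set G) : Subgroup G) : Set G) := by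
    intro s hs
    have h1 : cj s (ZJ V J) = ZJ V J := by
      refine Subgroup.eq_of_le_of_card_ge ?_ (by rw [card_cj])
      rintro _ ⟨z, hz, rfl⟩
      exact h.S_ZJ hs hz
    rw [mem_normalizer_iff_cj, cj_centralizer, h1]
  have hTK : T ≤ (S : Subgroup G) ⊔ centralizer (ZJ V J : Set G) := fun t ht =>
    mem_sup_right (mem_centralizer_iff.2 fun z hz => (hTc t ht z hz).symm)
  obtain ⟨m, hm, hmS⟩ := BFr.exists_into S le_sup_left hT hTK
  obtain ⟨s, hs, k, hk, rfl⟩ := mem_sup_norm hSn hm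
  have h1 : cj k T ≤ (S : Subgroup G) := by
    have h2 := cj_mono s⁻¹ hmS
    rwa [cj_cj, ← mul_assoc, inv_mul_cancel, one_mul, cj_eq_of_mem_normalizer (le_normalizer (inv_mem hs))] at h2
  have h2 : cj k T ≤ BB (S : Subgroup G) V J := by
    refine le_inf h1 ?_
    rintro _ ⟨t, ht, rfl⟩
    exact mul_mem (mul_mem hk (mem_centralizer_iff.2 fun z hz => (hTc t ht z hz).symm)) (inv_mem hk)
  refine (Subgroup.eq_of_le_of_card_ge hBT ?_).symm
  rw [← card_cj k T]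
  exact Subgroup.card_le_of_le h2

end Lq

end Cfsg.Agent.Omega.NOThreeL.RRed.QFr
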